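import Cfsg.Agent.H573.Spor.HSFive_m3
import Cfsg.Agent.MFive.FixN
import Cfsg.Agent.Lib.ListFast
import Cfsg.Agent.H729.RealBase
import Cfsg.Agent.Th.Main1700
import Cfsg.Agent.H149.Sp.Th
import Cfsg.Agent.Th.Bit3W
import Cfsg.Agent.Prune
set_option linter.all false

-- part: H799/RO/CoNine
section
set_option linter.all false
open scoped Cfsg.Agent.FastGrp

namespace Cfsg.Agent.Co0A_H799_RO_CoNine

open Cfsg Cfsg.Agent.SporadicA Cfsg.Agent.SporadicStructure.Co0Matrix Cfsg.Agent.CoOneType.CoEval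

/-- dot product with two accumulators -/
private noncomputable def dk (r : List ℤ) : List ℤ → ℕ → ℕ → ℤ :=
  List.rec (fun _ P N => Int.subNatNat P N) (fun a _ ih l P N => List.rec (Int.subNatNat P N) (fun b t _ =>
    Int.rec (fun x => Int.rec (fun y => ih t (Nat.add P (Nat.mul x y)) N) (fun y => ih t P (Nat.add N (Nat.mul x (Nat.succ y)))) b)
      (fun x => Int.rec (fun y => ih t P (Nat.add N (Nat.mul (Nat.succ x) y)))
        (fun y => ih t (Nat.add P (Nat.mul (Nat.succ x) (Nat.succ y))) N) b) a) l) r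

private theorem dk_eq : ∀ (r l : List ℤ) (P N : ℕ), dk r l P N = P - N + dotL r l
  | [], l, P, N => by rw [dotL_nil_left, add_zero]; exact Int.subNatNat_eq_coe
  | a :: s, [], P, N => by rw [dotL_nil_right, add_zero]; exact Int.subNatNat_eq_coe
  | .ofNat x :: s, .ofNat y :: t, P, N => (dk_eq s t (P + x * y) N).trans (by
      rw [dotL_cons, Int.ofNat_eq_natCast, Int.ofNat_eq_natCast]; push_cast; ring)
  | .ofNat x :: s, .negSucc y :: t, P, N => (dk_eq s t P (N + x * (y + 1))).trans (by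
      rw [dotL_cons, Int.ofNat_eq_natCast, Int.negSucc_eq]; push_cast; ring)
  | .negSucc x :: s, .ofNat y :: t, P, N => (dk_eq s t P (N + (x + 1) * y)).trans (by
      rw [dotL_cons, Int.ofNat_eq_natCast, Int.negSucc_eq]; push_cast; ring)
  | .negSucc x :: s, .negSucc y :: t, P, N => (dk_eq s t (P + (x + 1) * (y + 1)) N).trans (by
      rw [dotL_cons, Int.negSucc_eq, Int.negSucc_eq]; push_cast; ring)

private theorem dk0 (r l : List ℤ) : dk r l 0 0 = dotL r l := by rw [dk_eq]; simp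

/-- the columns, packed -/
private noncomputable def pk (A : List (List ℤ)) : List ℤ :=
  List.rec (List.replicate 24 0) (fun g _ s => List.zipWith (fun a b => a + 187072209578355573530071658587695627230779288774677 * b) g s) A

/-- the offset -/
private noncomputable def off (A : List (List ℤ)) : ℕ :=
  List.rec 0 (fun _ _ s => 46768052394588893382517914646921056628989841375232 + 187072209578355573530071658587695627230779288774677 * s) A

/-- the digits, divided by 8 -/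
private noncomputable def unp (A : List (List ℤ)) : ℕ → List ℤ :=
  List.rec (fun _ => []) (fun _ _ ih P => Int.subNatNat (Nat.div (Nat.mod P (nat_lit 187072209578355573530071658587695627230779288774677))
    (nat_lit 8)) (nat_lit 5846006549323611672814739330865132078623730171904) ::
    ih (Nat.div P (nat_lit 187072209578355573530071658587695627230779288774677))) A

/-- small entries -/
private noncomputable def sm (B : ℕ) (l : List ℤ) : Bool :=
  List.rec true (fun a _ ih => cond (Nat.ble (Int.rec (fun x => x) (fun x => Nat.succ x) a) B) ih false) l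

private theorem sm_cons {B : ℕ} {a : ℤ} {l : List ℤ} (h : sm B (a :: l) = true) : |a| ≤ B ∧ sm B l = true := by
  have h1 : cond (Nat.ble a.natAbs B) (sm B l) false = true := by cases a <;> exact h
  cases h2 : Nat.ble a.natAbs B
  · rw [h2] at h1; exact absurd h1 Bool.false_ne_true
  · rw [h2] at h1
    exact ⟨by rw [Int.abs_eq_natAbs]; exact Int.ofNat_le.2 (Nat.le_of_ble_eq_true h2), h1⟩

private theorem abs_dot {B C : ℕ} : ∀ {l r : List ℤ}, sm B l = true → sm C r = true → |dotL l r| ≤ r.length * (B * C)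
  | [], r, _, _ => by rw [dotL_nil_left, abs_zero]; positivity
  | _ :: _, [], _, _ => by rw [dotL_nil_right, abs_zero]; positivity
  | a :: l, b :: r, h1, h2 => by
    rw [dotL_cons, List.length_cons, Nat.cast_succ, add_mul, one_mul, add_comm _ ((B : ℤ) * C)]
    exact (abs_add_le _ _).trans (add_le_add ((abs_mul a b).trans_le (mul_le_mul (sm_cons h1).1 (sm_cons h2).1 (abs_nonneg _)
      (Int.natCast_nonneg _))) (abs_dot (sm_cons h1).2 (sm_cons h2).2))

private theorem dot_zip (X : ℤ) : ∀ (l g s : List ℤ), g.length = s.length →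
    dotL l (List.zipWith (fun a b => a + X * b) g s) = dotL l g + X * dotL l s
  | [], _, _, _ => by rw [dotL_nil_left, dotL_nil_left, dotL_nil_left, mul_zero, add_zero]
  | _ :: _, [], [], _ => by rw [List.zipWith_nil_left, dotL_nil_right, mul_zero, add_zero]
  | _ :: _, [], _ :: _, h => absurd h.symm (Nat.succ_ne_zero _)
  | _ :: _, _ :: _, [], h => absurd h (Nat.succ_ne_zero _)
  | c :: l, a :: g, b :: s, h => by
    rw [List.zipWith_cons_cons, dotL_cons, dotL_cons, dotL_cons, dot_zip X l g s (Nat.succ.inj h)]; ring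

private theorem dot_rep : ∀ (l : List ℤ) (n : ℕ), dotL l (List.replicate n 0) = 0
  | [], _ => dotL_nil_left _
  | _ :: _, 0 => rfl
  | a :: l, n + 1 => by rw [List.replicate_succ, dotL_cons, dot_rep l n, mul_zero, add_zero]

/-- shape of the matrix -/
private noncomputable def sh (A : List (List ℤ)) : Bool :=
  List.rec true (fun r _ ih => Nat.beq r.length 24 && (sm 1000 r && ih)) A

private theorem unp_eq {l : List ℤ} (hl : sm 1427247692705959881058285969449495136382746624 l = true) : ∀ A : List (List ℤ), sh A = true →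
    (pk A).length = 24 ∧ 0 ≤ off A + dotL l (pk A) ∧ ∀ P : ℕ, (P : ℤ) = off A + dotL l (pk A) → unp A P = ap A l
  | [], _ => ⟨rfl, (congrArg (0 + ·) (dot_rep l 24)).ge, fun _ _ => rfl⟩
  | r :: A, h => by
    obtain ⟨h1, h⟩ := Bool.and_eq_true_iff.1 h
    obtain ⟨h2, h⟩ := Bool.and_eq_true_iff.1 h
    obtain ⟨h3, h4, h5⟩ := unp_eq hl A h
    have h6 := Nat.eq_of_beq_eq_true h1
    have h7 := abs_le.1 (abs_dot hl h2)
    have h8 : (off (r :: A) : ℤ) + dotL l (pk (r :: A)) = dotL l r + 46768052394588893382517914646921056628989841375232 +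
        187072209578355573530071658587695627230779288774677 * (off A + dotL l (pk A)) := by
      rw [show dotL l (pk (r :: A)) = _ from dot_zip _ l r (pk A) (h6.trans h3.symm), show off (r :: A) =
        46768052394588893382517914646921056628989841375232 + 187072209578355573530071658587695627230779288774677 * off A from rfl]
      push_cast
      ring
    rw [h6] at h7
    rw [h8]
    generalize (off A : ℤ) + dotL l (pk A) = z at h4 h5
    refine ⟨(List.length_zipWith.trans (congrArg₂ min h6 h3) :), by omega, fun P hP => congrArg₂ List.cons ?_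
      (h5 (P / 187072209578355573530071658587695627230779288774677) (by omega))⟩
    show Int.subNatNat (P % 187072209578355573530071658587695627230779288774677 / 8)
      5846006549323611672814739330865132078623730171904 = dotL l r / 8
    rw [Int.subNatNat_eq_coe]
    omega

/-- matrix times vector -/
private noncomputable def apF (A : List (List ℤ)) (l : List ℤ) : List ℤ :=
  cond (sh A) (cond (sm 1427247692705959881058285969449495136382746624 l) (Nat.casesOn (motive := fun _ => List ℤ)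
    (Int.toNat (dk l (pk A) (off A) 0)) (unp A 0) (fun P => unp A (Nat.succ P))) (ap A l)) (ap A l)

private theorem apF_eq : apF = ap := funext fun A => funext fun l => by
  unfold apF
  cases h1 : sh A
  · rfl
  cases h2 : sm 1427247692705959881058285969449495136382746624 l
  · rfl
  obtain ⟨-, h3, h4⟩ := unp_eq h2 A h1
  have h5 := h4 (Int.toNat (dk l (pk A) (off A) 0)) (by rw [dk_eq, Nat.cast_zero, sub_zero]; exact Int.toNat_of_nonneg h3)
  generalize Int.toNat (dk l (pk A) (off A) 0) = P at h5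
  cases P <;> exact h5

private theorem apZ_F : Cfsg.Agent.LThreeCo1.Ev.apZ = apF :=
  (funext fun R => funext fun l => Cfsg.Agent.LThreeCo1.Ev.apZ_eq R l).trans apF_eq.symm

private theorem ap_F : ap = apF := apF_eq.symm

private theorem dotL_F : dotL = fun r l => dk r l 0 0 := funext fun r => funext fun l => (dk0 r l).symm

end Cfsg.Agent.Co0A_H799_RO_CoNine

namespace Cfsg.Agent.Co0Q_H799_RO_CoNine

open Cfsg Cfsg.Agent.SporadicA Cfsg.Agent.SporadicStructure.Co0Matrix Cfsg.Agent.CoOneType.CoFast Finset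

/-- dot product with two accumulators -/
private noncomputable def dk (r : List ℤ) : List ℤ → ℕ → ℕ → ℤ :=
  List.rec (fun _ P N => Int.subNatNat P N) (fun a _ ih l P N => List.rec (Int.subNatNat P N) (fun b t _ =>
    Int.rec (fun x => Int.rec (fun y => ih t (Nat.add P (Nat.mul x y)) N) (fun y => ih t P (Nat.add N (Nat.mul x (Nat.succ y)))) b)
      (fun x => Int.rec (fun y => ih t P (Nat.add N (Nat.mul (Nat.succ x) y)))
        (fun y => ih t (Nat.add P (Nat.mul (Nat.succ x) (Nat.succ y))) N) b) a) l) r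

private theorem dk_eq : ∀ (r l : List ℤ) (P N : ℕ), dk r l P N = P - N + dotL r l
  | [], l, P, N => by rw [dotL_nil_left, add_zero]; exact Int.subNatNat_eq_coe
  | a :: s, [], P, N => by rw [dotL_nil_right, add_zero]; exact Int.subNatNat_eq_coe
  | .ofNat x :: s, .ofNat y :: t, P, N => (dk_eq s t (P + x * y) N).trans (by
      rw [dotL_cons, Int.ofNat_eq_natCast, Int.ofNat_eq_natCast]; push_cast; ring)
  | .ofNat x :: s, .negSucc y :: t, P, N => (dk_eq s t P (N + x * (y + 1))).trans (by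
      rw [dotL_cons, Int.ofNat_eq_natCast, Int.negSucc_eq]; push_cast; ring)
  | .negSucc x :: s, .ofNat y :: t, P, N => (dk_eq s t P (N + (x + 1) * y)).trans (by
      rw [dotL_cons, Int.ofNat_eq_natCast, Int.negSucc_eq]; push_cast; ring)
  | .negSucc x :: s, .negSucc y :: t, P, N => (dk_eq s t (P + (x + 1) * (y + 1)) N).trans (by
      rw [dotL_cons, Int.negSucc_eq, Int.negSucc_eq]; push_cast; ring)

private theorem dk0 (r l : List ℤ) : dk r l 0 0 = dotL r l := by rw [dk_eq]; simp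

/-- entry -/
private def en (A : List (List ℤ)) (i j : ℕ) : ℤ := (A.getD i []).getD j 0

/-- shape and size of the entries -/
private def sh (A : List (List ℤ)) : Bool := A.all fun r => Nat.beq r.length 24 && r.all fun a => Nat.ble a.natAbs 1000

private theorem sh_len {A : List (List ℤ)} (h : sh A = true) {r : List ℤ} (hr : r ∈ A) : r.length = 24 :=
  Nat.eq_of_beq_eq_true (Bool.and_eq_true_iff.1 (List.all_eq_true.1 h r hr)).1

private theorem sh_le {A : List (List ℤ)} (h : sh A = true) (i : ℕ) : (A.getD i []).length ≤ 24 := by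
  by_cases hi : i < A.length
  · exact (sh_len h (getD_mem_of_lt A [] hi)).le
  · rw [List.getD_eq_default _ _ (not_lt.1 hi)]; exact Nat.zero_le _

private theorem sh_abs {A : List (List ℤ)} (h : sh A = true) (i j : ℕ) : |en A i j| ≤ 1000 := by
  unfold en
  by_cases hi : i < A.length
  · by_cases hj : j < (A.getD i []).length
    · have := Nat.le_of_ble_eq_true (List.all_eq_true.1 (Bool.and_eq_true_iff.1 (List.all_eq_true.1 h _ (getD_mem_of_lt A [] hi))).2 _
        (getD_mem_of_lt _ 0 hj))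
      rw [Int.abs_eq_natAbs]; exact_mod_cast this
    · rw [List.getD_eq_default _ _ (not_lt.1 hj)]; decide
  · rw [List.getD_eq_default _ _ (not_lt.1 hi), List.getD_nil]; decide

private theorem sum_lt (B : ℕ) (c : ℕ → ℕ) (h : ∀ k, c k < B) : ∀ n, ∑ k ∈ range n, c k * B ^ k < B ^ n
  | 0 => Nat.one_pos
  | n + 1 => by
    rw [sum_range_succ, pow_succ']
    exact lt_of_lt_of_le (Nat.add_lt_add_right (sum_lt B c h n) _) (by
      rw [add_comm, ← Nat.succ_mul]; exact Nat.mul_le_mul_right _ (h n))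

private theorem land_dig (w m : ℕ) (hm : m < 2 ^ w) : ∀ (n : ℕ) (c : ℕ → ℕ), (∀ k, c k < 2 ^ w) →
    (∑ k ∈ range n, c k * (2 ^ w) ^ k) &&& (∑ k ∈ range n, m * (2 ^ w) ^ k) = 0 → ∀ k < n, c k &&& m = 0
  | 0, _, _, _, k, hk => absurd hk (Nat.not_lt_zero k)
  | n + 1, c, hc, h, k, hk => by
    have e : ∀ d : ℕ → ℕ, ∑ k ∈ range (n + 1), d k * (2 ^ w) ^ k = d 0 + 2 ^ w * ∑ k ∈ range n, d (k + 1) * (2 ^ w) ^ k := fun d => by
      rw [sum_range_succ', pow_zero, mul_one, add_comm, mul_sum]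
      exact congrArg _ (sum_congr rfl fun k _ => by rw [pow_succ', mul_left_comm])
    rw [e c, e fun _ => m] at h
    cases k with
    | zero =>
      have := congrArg (· % 2 ^ w) h
      simpa only [Nat.and_mod_two_pow, Nat.add_mul_mod_self_left, Nat.mod_eq_of_lt hm, Nat.mod_eq_of_lt (hc 0), Nat.zero_mod] using this
    | succ k =>
      have := congrArg (· / 2 ^ w) h
      simp only [Nat.and_div_two_pow, Nat.add_mul_div_left _ _ (Nat.two_pow_pos w), Nat.div_eq_of_lt hm, Nat.div_eq_of_lt (hc 0),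
        Nat.zero_div, Nat.zero_add] at this
      exact land_dig w m hm n (fun k => c (k + 1)) (fun k => hc _) this k (Nat.lt_of_succ_lt_succ hk)

/-- the sum of `n` powers of `2 ^ w` -/
private def jj (w n : ℕ) : ℕ := Nat.div (Nat.sub (Nat.pow 2 (Nat.mul w n)) 1) (Nat.sub (Nat.pow 2 w) 1)

private theorem jj_eq {w : ℕ} (hw : w ≠ 0) (n : ℕ) : jj w n = ∑ k ∈ range n, (2 ^ w) ^ k := by
  rw [Nat.geomSum_eq (Nat.one_lt_two_pow hw), ← pow_mul]; rfl

/-- all digits are divisible by `2 ^ e` -/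
private def tst (n e : ℕ) (N : ℤ) : Bool :=
  Nat.beq (Nat.land (N + Int.ofNat (Nat.mul (Nat.pow 2 40) (Nat.mul (jj 48 n) (jj (Nat.mul 48 n) n)))).toNat
    (Nat.mul (Nat.sub (Nat.pow 2 e) 1) (Nat.mul (jj 48 n) (jj (Nat.mul 48 n) n)))) 0

private theorem key {n e : ℕ} (hn : n ≠ 0) (he : e ≤ 40) (d : ℕ → ℕ → ℤ) (hd : ∀ a b, |d a b| < 2 ^ 40)
    (h : tst n e (∑ b ∈ range n, (∑ a ∈ range n, d a b * (2 ^ 48) ^ a) * (2 ^ (48 * n)) ^ b) = true) (a b : ℕ) (ha : a < n) (hb : b < n) :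
    2 ^ e ∣ d a b := by
  have h1 : ∀ a b, (((d a b + 2 ^ 40).toNat : ℕ) : ℤ) = d a b + 2 ^ 40 := fun a b =>
    Int.toNat_of_nonneg (by linarith only [(abs_lt.1 (hd a b)).1])
  have h2 : ∀ a b, (d a b + 2 ^ 40).toNat < 2 ^ 48 := fun a b => by
    have := (abs_lt.1 (hd a b)).2
    have := h1 a b
    omega
  have h3 : 2 ^ e - 1 < 2 ^ 48 := lt_of_le_of_lt (Nat.sub_le _ _) (Nat.pow_lt_pow_right (by decide) (by omega))
  have h4 := Nat.eq_of_beq_eq_true h
  have e1 : (∑ b ∈ range n, (∑ a ∈ range n, d a b * (2 ^ 48) ^ a) * (2 ^ (48 * n)) ^ b) +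
      Int.ofNat (Nat.mul (Nat.pow 2 40) (Nat.mul (jj 48 n) (jj (Nat.mul 48 n) n))) =
      ((∑ b ∈ range n, (∑ a ∈ range n, (d a b + 2 ^ 40).toNat * (2 ^ 48) ^ a) * (2 ^ (48 * n)) ^ b : ℕ) : ℤ) := by
    show _ + ((2 ^ 40 * (jj 48 n * jj (48 * n) n) : ℕ) : ℤ) = _
    rw [jj_eq (by decide), jj_eq (Nat.mul_ne_zero (by decide) hn)]
    simp only [Nat.cast_sum, Nat.cast_mul, Nat.cast_pow, Nat.cast_ofNat, h1, add_mul, sum_add_distrib]
    rw [← mul_sum, ← mul_sum, mul_assoc]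
  have e2 : Nat.mul (Nat.sub (Nat.pow 2 e) 1) (Nat.mul (jj 48 n) (jj (Nat.mul 48 n) n)) =
      ∑ b ∈ range n, (∑ a ∈ range n, (2 ^ e - 1) * (2 ^ 48) ^ a) * (2 ^ (48 * n)) ^ b := by
    show (2 ^ e - 1) * (jj 48 n * jj (48 * n) n) = _
    rw [jj_eq (by decide), jj_eq (Nat.mul_ne_zero (by decide) hn), ← mul_sum, ← mul_sum, mul_assoc]
  rw [e1, e2, Int.toNat_natCast] at h4
  have h5 := land_dig 48 _ h3 n _ (fun k => h2 k b) (land_dig (48 * n) _ (by rw [pow_mul]; exact sum_lt _ _ (fun _ => h3) n) n _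
    (fun k => by rw [pow_mul]; exact sum_lt _ _ (fun a => h2 a k) n) h4 b hb) a ha
  rw [Nat.and_two_pow_sub_one_eq_mod] at h5
  have h6 : ((2 ^ e : ℕ) : ℤ) ∣ d a b + 2 ^ 40 := h1 a b ▸ Int.natCast_dvd_natCast.2 (Nat.dvd_of_mod_eq_zero h5)
  rw [Nat.cast_pow, Nat.cast_ofNat] at h6
  exact (dvd_add_left (pow_dvd_pow 2 he)).1 h6

private theorem abs_sum {f : ℕ → ℤ} {c : ℤ} (h : ∀ i, |f i| ≤ c) : |∑ i ∈ range 24, f i| ≤ 24 * c :=
  (abs_sum_le_sum_abs _ _).trans ((sum_le_card_nsmul _ _ c fun i _ => h i).trans (by rw [card_range, nsmul_eq_mul]; rfl))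

private theorem abs_mul' {a b c d : ℤ} (h : |a| ≤ c) (h' : |b| ≤ d) : |a * b| ≤ c * d :=
  (abs_mul a b).trans_le (mul_le_mul h h' (abs_nonneg _) ((abs_nonneg _).trans h))

/-- matrix times vector -/
private noncomputable def mv (A : List (List ℤ)) (l : List ℤ) : List ℤ := List.rec [] (fun r _ ih => dk r l 0 0 :: ih) A

private theorem mv_len (l : List ℤ) : ∀ A : List (List ℤ), (mv A l).length = A.length
  | [] => rfl
  | _ :: A => congrArg (· + 1) (mv_len l A)

private theorem mv_get (l : List ℤ) : ∀ (A : List (List ℤ)) (i : ℕ), (mv A l).getD i 0 = dotL (A.getD i []) l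
  | [], _ => rfl
  | r :: _, 0 => dk0 r l
  | _ :: A, i + 1 => mv_get l A i

private theorem mv_sum {A : List (List ℤ)} (h : sh A = true) (l : List ℤ) (i : ℕ) :
    (mv A l).getD i 0 = ∑ j ∈ range 24, en A i j * l.getD j 0 := (mv_get l A i).trans (sum_range_getD _ l 24 (sh_le h i)).symm

/-- powers -/
private def pw (w : ℕ) : List ℤ := (List.range 24).map fun j => Int.ofNat (Nat.pow 2 (Nat.mul w j))

private theorem pw_get (w : ℕ) {j : ℕ} (hj : j ∈ range 24) : (pw w).getD j 0 = (2 ^ w) ^ j := by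
  rw [pw, List.getD_eq_getElem _ _ (by rw [List.length_map, List.length_range]; exact mem_range.1 hj), List.getElem_map,
    List.getElem_range, ← pow_mul]
  exact Nat.cast_pow 2 _

/-- the product of the transpose of `A` and `B` is `c` times the identity -/
private noncomputable def prd (A B : List (List ℤ)) (c : ℤ) : Bool :=
  tst 24 40 (dk (mv A (pw 48)) (mv B (pw 1152)) 0 0 - c * dk (pw 48) (pw 1152) 0 0)

private theorem prd_spec {A B : List (List ℤ)} {c : ℤ} (hA : sh A = true) (hB : sh B = true) (hl : A.length = 24) (hc : |c| ≤ 64)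
    (h : prd A B c = true) {a b : ℕ} (ha : a < 24) (hb : b < 24) : ∑ i ∈ range 24, en A i a * en B i b = if a = b then c else 0 := by
  have h1 : ∀ a b, |∑ i ∈ range 24, en A i a * en B i b - if a = b then c else 0| < 2 ^ 40 := fun a b =>
    lt_of_le_of_lt ((abs_sub _ _).trans (add_le_add (abs_sum fun i => abs_mul' (sh_abs hA i a) (sh_abs hB i b))
      (show _ ≤ 64 by split_ifs; exacts [hc, by decide]))) (by decide)
  refine sub_eq_zero.1 (Int.eq_zero_of_abs_lt_dvd (key (n := 24) (by decide) le_rfl _ h1 ?_ a b ha hb) (h1 a b))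
  rw [← h, prd, dk0, dk0, ← sum_range_getD _ _ 24 ((mv_len _ A).trans hl).le, ← sum_range_getD (pw 48) _ 24 (by decide)]
  congr 1
  simp only [sub_mul, sum_sub_distrib, mv_sum hA, mv_sum hB]
  congr 1
  · simp only [sum_mul, mul_sum]
    rw [sum_comm]
    refine (sum_congr rfl fun a _ => sum_comm).trans (sum_comm.trans (sum_congr rfl fun i _ => sum_comm.trans
      (sum_congr rfl fun b hb => sum_congr rfl fun a ha => ?_)))
    rw [pw_get _ ha, pw_get _ hb]; ring
  · rw [mul_sum]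
    refine sum_congr rfl fun b hb => ?_
    rw [sum_eq_single b (fun a _ h => by rw [if_neg h, zero_mul]) (fun h => absurd hb h), if_pos rfl, pw_get _ hb, pw_get _ hb, mul_assoc]

/-- the rows, packed -/
private noncomputable def pk (X : ℤ) (A : List (List ℤ)) : List ℤ :=
  List.rec (List.replicate 24 0) (fun g _ s => List.zipWith (fun a b => a + X * b) g s) A

private theorem pk_spec (X : ℤ) : ∀ A : List (List ℤ), sh A = true → (pk X A).length = 24 ∧
    ∀ j < 24, (pk X A).getD j 0 = ∑ a ∈ range A.length, en A a j * X ^ a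
  | [], _ => ⟨rfl, show ∀ j < 24, (List.replicate 24 (0 : ℤ)).getD j 0 = 0 by decide⟩
  | g :: A, h => by
    have hg := sh_len h List.mem_cons_self
    obtain ⟨h1, h2⟩ := pk_spec X A (Bool.and_eq_true_iff.1 h).2
    have h3 : (List.zipWith (fun a b => a + X * b) g (pk X A)).length = 24 := by rw [List.length_zipWith, hg, h1]; rfl
    refine ⟨h3, fun j hj => ?_⟩
    show (List.zipWith (fun a b => a + X * b) g (pk X A)).getD j 0 = _
    rw [List.getD_eq_getElem _ _ (h3 ▸ hj), List.getElem_zipWith, ← List.getD_eq_getElem _ 0, ← List.getD_eq_getElem _ 0, h2 j hj,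
      List.length_cons, sum_range_succ', add_comm, pow_zero, mul_one, mul_sum]
    exact congrArg₂ _ (sum_congr rfl fun a _ => by rw [pow_succ', mul_left_comm]; rfl) rfl

private theorem sh_gens : sh gens = true ∧ gens.length = 49 := by decide +kernel

/-- the packed generators -/
private def cf (w : ℕ) : List ℤ :=
  ((List.range 23).map fun j => Int.ofNat (Nat.add (Nat.add (Nat.pow 2 (Nat.add (Nat.mul w j) 2)) (Nat.shiftLeft (Nat.mod (Nat.shiftLeft
    ([0, 5, 7, 10, 11, 14, 15, 17, 19, 20, 21, 22].foldr (fun t s => Nat.add (Nat.pow 2 (Nat.mul w t)) s) 0) (Nat.mul w j))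
    (Nat.sub (Nat.pow 2 (Nat.mul w 23)) 1)) (Nat.succ (Nat.mul w 23))))
    (Nat.add (Nat.pow 2 (Nat.succ (Nat.mul w 47))) (Nat.pow 2 (Nat.mul w 48))))) ++
  [Int.subNatNat (Nat.add (Nat.pow 2 (Nat.add (Nat.mul w 46) 3)) (Nat.pow 2 (Nat.succ (Nat.mul w 47))))
    (Nat.add (Nat.mul 4 (jj w 23)) (Nat.mul 3 (Nat.pow 2 (Nat.mul w 48))))]

private noncomputable def _root_.Cfsg.Agent.LsF.f1d5f50_0 : {f // @Int.subNatNat = f} := ⟨_, by first | (delta Int.subNatNat; rewrite [Cfsg.Agent.LsF.nsub_pat]; (try delta Int.negOfNat.match_1); (try delta Nat.casesOn); exact rfl) | exact rfl⟩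
private noncomputable def _root_.Cfsg.Agent.LsF.f1d5f50_1 : {f // @Cfsg.Agent.Co0Q_H799_RO_CoNine.cf = f} := ⟨_, by first | (delta Cfsg.Agent.Co0Q_H799_RO_CoNine.cf; rewrite [Cfsg.Agent.LsF.f1d5f50_0.2, Cfsg.Agent.LsF.lappend_pat, Cfsg.Agent.LsF.map_eq, Cfsg.Agent.LsF.foldr_eq, Cfsg.Agent.LsF.range_eq]; exact rfl) | exact rfl⟩
private noncomputable def _root_.Cfsg.Agent.LsF.f1d5f50_2 : {f // @Cfsg.Agent.Co0Q_H799_RO_CoNine.pk = f} := ⟨_, by first | (delta Cfsg.Agent.Co0Q_H799_RO_CoNine.pk; rewrite [Cfsg.Agent.LsF.iadd_pat, Cfsg.Agent.LsF.imul_pat, Cfsg.Agent.LsF.zipWith_eq, Cfsg.Agent.LsF.replicate_eq]; exact rfl) | exact rfl⟩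
private noncomputable def _root_.Cfsg.Agent.LsF.f1d5f50_3 : {f // @Cfsg.Agent.SporadicStructure.Co0Matrix.twoL = f} := ⟨_, by first | (delta Cfsg.Agent.SporadicStructure.Co0Matrix.twoL; rewrite [Cfsg.Agent.LsF.instDecEq_eq, Cfsg.Agent.LsF.map_eq, Cfsg.Agent.LsF.range_eq, Cfsg.Agent.LsF.ite_eq]; exact rfl) | exact rfl⟩
private noncomputable def _root_.Cfsg.Agent.LsF.f1d5f50_4 : {f // @Cfsg.Agent.SporadicA.GolayBase.qrMask = f} := ⟨_, by first | (delta Cfsg.Agent.SporadicA.GolayBase.qrMask; rewrite [Cfsg.Agent.LsF.nsub_pat, Cfsg.Agent.LsF.nmod_pat, Cfsg.Agent.LsF.nor_pat, Cfsg.Agent.LsF.nshl_pat, Cfsg.Agent.LsF.nshr_pat]; exact rfl) | exact rfl⟩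
private noncomputable def _root_.Cfsg.Agent.LsF.f1d5f50_5 : {f // @Cfsg.Agent.SporadicStructure.Co0Matrix.gens = f} := ⟨_, by first | (delta Cfsg.Agent.SporadicStructure.Co0Matrix.gens; rewrite [Cfsg.Agent.LsF.f1d5f50_3.2, Cfsg.Agent.LsF.f1d5f50_4.2, Cfsg.Agent.LsF.ineg_pat, Cfsg.Agent.LsF.lappend_pat, Cfsg.Agent.LsF.instDecEq_eq, Cfsg.Agent.LsF.testBit_eq, Cfsg.Agent.LsF.map_eq, Cfsg.Agent.LsF.range_eq, Cfsg.Agent.LsF.dBoolEq_eq, Cfsg.Agent.LsF.ite_eq]; exact rfl) | exact rfl⟩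
private theorem cf_eq : cf 2352 = pk (Int.ofNat (Nat.pow 2 2352)) gens ∧ cf 48 = pk (Int.ofNat (Nat.pow 2 48)) gens := by (refine of_decide_eq_true ?_; (try (rewrite [Cfsg.Agent.LsF.f1d5f50_1.2, Cfsg.Agent.LsF.f1d5f50_2.2, Cfsg.Agent.LsF.f1d5f50_5.2, Cfsg.Agent.LsF.instIDecEq_eq, Cfsg.Agent.LsF.dAnd_eq, Cfsg.Agent.LsF.dListEq_eq, Cfsg.Agent.LsF.decide_eq])); decide +kernel)

/-- the values of the form on the generators are divisible by 64 -/
private noncomputable def prs (R : List (List ℤ)) : Bool := tst 49 6 (dk (cf 2352) (mv R (cf 48)) 0 0)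

private theorem prs_spec {R : List (List ℤ)} (hR : sh R = true) (h : prs R = true) (a b : ℕ) (ha : a < 49) (hb : b < 49) :
    64 ∣ ∑ i ∈ range 24, en gens b i * ∑ j ∈ range 24, en R i j * en gens a j := by
  refine key (n := 49) (e := 6) (by decide) (by decide) (fun a b => ∑ i ∈ range 24, en gens b i * ∑ j ∈ range 24, en R i j * en gens a j)
    (fun a b => lt_of_le_of_lt (abs_sum fun i => abs_mul' (sh_abs sh_gens.1 b i)
      (abs_sum fun j => abs_mul' (sh_abs hR i j) (sh_abs sh_gens.1 a j))) (by decide)) ?_ a b ha hb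
  have e : ∀ w : ℕ, Int.ofNat (Nat.pow 2 w) = 2 ^ w := fun w => Nat.cast_pow 2 w
  refine (congrArg (tst 49 6) ?_).trans h
  rw [cf_eq.1, cf_eq.2, dk0, ← sum_range_getD _ _ 24 (pk_spec _ _ sh_gens.1).1.le, e, e, show 48 * 49 = 2352 from rfl, sum_congr rfl fun i hi => congrArg₂ _ ((pk_spec _ _ sh_gens.1).2 i (mem_range.1 hi)) ((mv_sum hR _ i).trans
    (sum_congr rfl fun j hj => congrArg _ ((pk_spec _ _ sh_gens.1).2 j (mem_range.1 hj)))), sh_gens.2]
  simp only [sum_mul, mul_sum]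
  refine (sum_congr rfl fun b _ => sum_comm).trans (sum_comm.trans (sum_congr rfl fun i _ => ?_))
  refine (sum_congr rfl fun b _ => sum_comm).trans (sum_comm.trans (sum_congr rfl fun j _ => sum_comm.trans ?_))
  exact sum_congr rfl fun a _ => sum_congr rfl fun b _ => by ring

/-- a basis among the generators -/
private def sel : List ℕ := [0, 2, 4, 5, 9, 12, 13, 15, 16, 21, 22, 23, 24, 27, 29, 36, 38, 39, 40, 42, 43, 44, 46, 48]

/-- the dual basis -/
private def du : List (List ℤ) := [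
  [2, -22, 0, -100, 0, 0, -12, -178, -162, 0, 26, -228, 0, 0, 412, 0, 0, 220, 294, -358, 106, 0, 0, 0],
  [0, -22, 2, -94, 0, 0, -12, -170, -152, 0, 28, -214, 0, 0, 388, 0, 0, 206, 278, -338, 100, 0, 0, 0],
  [0, -22, 0, -90, 2, 0, -10, -164, -148, 0, 26, -206, 0, 0, 374, 0, 0, 198, 268, -324, 96, 0, 0, 0],
  [0, 0, 0, 8, 0, 2, 2, 14, 12, 0, -2, 18, 0, 0, -32, 0, 0, -18, -22, 28, -10, 0, 0, 0],
  [0, 4, 0, 28, 0, 0, 4, 50, 46, 2, -6, 66, 0, 0, -118, 0, 0, -62, -84, 102, -32, 0, 0, 0],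
  [0, -4, 0, -18, 0, 0, -2, -34, -30, 0, 6, -40, 2, 0, 74, 0, 0, 40, 52, -64, 18, 0, 0, 0],
  [0, 6, 0, 30, 0, 0, 4, 56, 50, 0, -8, 72, 0, 2, -130, 0, 0, -70, -92, 114, -34, 0, 0, 0],
  [0, 20, 0, 82, 0, 0, 10, 152, 134, 0, -26, 188, 0, 0, -344, 2, 0, -182, -246, 298, -88, 0, 0, 0],
  [0, -10, 0, -42, 0, 0, -6, -76, -70, 0, 12, -98, 0, 0, 176, 0, 2, 92, 126, -152, 46, 0, 0, 0],
  [0, -12, 0, -62, 0, 0, -8, -108, -100, 0, 14, -142, 0, 0, 254, 0, 0, 136, 182, -222, 66, 2, 0, 0],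
  [0, 6, 0, 28, 0, 0, 2, 50, 44, 0, -8, 62, 0, 0, -114, 0, 0, -60, -80, 98, -30, 0, 2, 0],
  [0, 16, 0, 64, 0, 0, 8, 116, 104, 0, -20, 144, 0, 0, -264, 0, 0, -140, -188, 228, -68, 0, 0, 0],
  [0, 4, 0, 8, 0, 0, 0, 16, 12, 0, -4, 16, 0, 0, -32, 0, 0, -16, -24, 28, -8, 0, 0, 0],
  [0, 0, 0, -4, 0, 0, 0, -4, -4, 0, 0, -8, 0, 0, 12, 0, 0, 8, 8, -12, 4, 0, 0, 0],
  [0, -16, 0, -72, 0, 0, -8, -128, -116, 0, 20, -164, 0, 0, 296, 0, 0, 156, 212, -256, 76, 0, 0, 0],
  [0, -4, 0, -12, 0, 0, 0, -24, -20, 0, 4, -28, 0, 0, 52, 0, 0, 28, 36, -44, 12, 0, 0, 0],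
  [0, 8, 0, 36, 0, 0, 4, 64, 60, 0, -8, 84, 0, 0, -152, 0, 0, -80, -108, 132, -40, 0, 0, 0],
  [0, 0, 0, -8, 0, 0, 0, -12, -12, 0, 0, -16, 0, 0, 28, 0, 0, 16, 20, -24, 8, 0, 0, 0],
  [0, 12, 0, 60, 0, 0, 8, 108, 96, 0, -16, 136, 0, 0, -248, 0, 0, -132, -176, 216, -64, 0, 0, 0],
  [0, 16, 0, 68, 0, 0, 8, 124, 112, 0, -20, 156, 0, 0, -284, 0, 0, -152, -204, 248, -72, 0, 0, 0],
  [0, -8, 0, -36, 0, 0, -4, -68, -60, 0, 12, -84, 0, 0, 152, 0, 0, 80, 108, -132, 40, 0, 0, 0],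
  [0, 20, 0, 88, 0, 0, 12, 160, 144, 0, -24, 204, 0, 0, -368, 0, 0, -196, -264, 320, -96, 0, 0, 0],
  [1, -43, 1, -175, 1, 1, -23, -315, -287, 1, 49, -399, 1, 1, 725, 1, 1, 385, 521, -631, 185, 1, 1, 1],
  [0, -40, 0, -160, 0, 0, -24, -296, -264, 0, 48, -368, 0, 0, 680, 0, 0, 360, 488, -592, 176, 0, 0, 0]]

private noncomputable def _root_.Cfsg.Agent.LsF.f1d5f50_6 : {f // @Cfsg.Agent.Co0Q_H799_RO_CoNine.sh = f} := ⟨_, by first | (delta Cfsg.Agent.Co0Q_H799_RO_CoNine.sh; rewrite [Cfsg.Agent.LsF.and_eq, Cfsg.Agent.LsF.all_eq, Cfsg.Agent.LsF.natAbs_eq, Cfsg.Agent.LsF.length_eq]; exact rfl) | exact rfl⟩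
private noncomputable def _root_.Cfsg.Agent.LsF.f1d5f50_7 : {f // @Cfsg.Agent.SporadicA.GolayBase.enc = f} := ⟨_, by first | (delta Cfsg.Agent.SporadicA.GolayBase.enc; rewrite [Cfsg.Agent.LsF.nmul_pat, Cfsg.Agent.LsF.nmod_pat, Cfsg.Agent.LsF.nxor_pat, Cfsg.Agent.LsF.nshr_pat]; exact rfl) | exact rfl⟩
private noncomputable def _root_.Cfsg.Agent.LsF.f1d5f50_8 : {f // @Cfsg.Agent.SporadicA.GolayBase.isCode = f} := ⟨_, by first | (delta Cfsg.Agent.SporadicA.GolayBase.isCode; rewrite [Cfsg.Agent.LsF.f1d5f50_7.2]; exact rfl) | exact rfl⟩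
private noncomputable def _root_.Cfsg.Agent.LsF.f1d5f50_9 : {f // @Cfsg.Agent.SporadicStructure.Co0Matrix.maskL = f} := ⟨_, by first | (delta Cfsg.Agent.SporadicStructure.Co0Matrix.maskL List.brecOn List.brecOn.go Cfsg.Agent.SporadicStructure.Co0Matrix.maskL._f; rewrite [Cfsg.Agent.LsF.nadd_pat, Cfsg.Agent.LsF.nmul_pat, Cfsg.Agent.LsF.imod_pat, Cfsg.Agent.LsF.toNat_eq]; (try delta Cfsg.Agent.SporadicStructure.Co0Matrix.maskL.match_1); (try delta List.casesOn); first | dsimp -zeta only | exact rfl) | exact rfl⟩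
private noncomputable def _root_.Cfsg.Agent.LsF.f1d5f50_10 : {f // @Cfsg.Agent.SporadicStructure.Co0Matrix.leechB = f} := ⟨_, by first | (delta Cfsg.Agent.SporadicStructure.Co0Matrix.leechB; rewrite [Cfsg.Agent.LsF.f1d5f50_8.2, Cfsg.Agent.LsF.f1d5f50_9.2, Cfsg.Agent.LsF.imul_pat, Cfsg.Agent.LsF.isub_pat, Cfsg.Agent.LsF.imod_pat, Cfsg.Agent.LsF.and_eq, Cfsg.Agent.LsF.all_eq, Cfsg.Agent.LsF.map_eq, Cfsg.Agent.LsF.sum_eq, Cfsg.Agent.LsF.headD_eq, Cfsg.Agent.LsF.instIAdd_eq, Cfsg.Agent.LsF.instIDecEq_eq, Cfsg.Agent.LsF.length_eq, Cfsg.Agent.LsF.decide_eq]; exact rfl) | exact rfl⟩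
private noncomputable def _root_.Cfsg.Agent.LsF.f1d5f50_11 : {f // @Cfsg.Agent.Co0Q_H799_RO_CoNine.tst = f} := ⟨_, by first | (delta Cfsg.Agent.Co0Q_H799_RO_CoNine.tst; rewrite [Cfsg.Agent.LsF.iadd_pat, Cfsg.Agent.LsF.toNat_eq]; exact rfl) | exact rfl⟩
private noncomputable def _root_.Cfsg.Agent.LsF.f1d5f50_12 : {f // @Cfsg.Agent.Co0Q_H799_RO_CoNine.dk = f} := ⟨_, by first | (delta Cfsg.Agent.Co0Q_H799_RO_CoNine.dk; rewrite [Cfsg.Agent.LsF.f1d5f50_0.2]; exact rfl) | exact rfl⟩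
private noncomputable def _root_.Cfsg.Agent.LsF.f1d5f50_13 : {f // @Cfsg.Agent.Co0Q_H799_RO_CoNine.mv = f} := ⟨_, by first | (delta Cfsg.Agent.Co0Q_H799_RO_CoNine.mv; rewrite [Cfsg.Agent.LsF.f1d5f50_12.2]; exact rfl) | exact rfl⟩
private noncomputable def _root_.Cfsg.Agent.LsF.f1d5f50_14 : {f // @Cfsg.Agent.Co0Q_H799_RO_CoNine.pw = f} := ⟨_, by first | (delta Cfsg.Agent.Co0Q_H799_RO_CoNine.pw; rewrite [Cfsg.Agent.LsF.map_eq, Cfsg.Agent.LsF.range_eq]; exact rfl) | exact rfl⟩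
private noncomputable def _root_.Cfsg.Agent.LsF.f1d5f50_15 : {f // @Cfsg.Agent.Co0Q_H799_RO_CoNine.prd = f} := ⟨_, by first | (delta Cfsg.Agent.Co0Q_H799_RO_CoNine.prd; rewrite [Cfsg.Agent.LsF.f1d5f50_11.2, Cfsg.Agent.LsF.f1d5f50_12.2, Cfsg.Agent.LsF.f1d5f50_13.2, Cfsg.Agent.LsF.f1d5f50_14.2, Cfsg.Agent.LsF.imul_pat, Cfsg.Agent.LsF.isub_pat]; exact rfl) | exact rfl⟩
private theorem du_ok : (sh du = true ∧ du.length = 24 ∧ du.all leechB = true) ∧ sh (sel.map fun a => gens.getD a []) = true ∧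
    prd du (sel.map fun a => gens.getD a []) 8 = true ∧ ∀ s < 24, sel.getD s 0 < 49 ∧ (sel.map fun a => gens.getD a []).getD s [] =
      gens.getD (sel.getD s 0) [] := by (refine of_decide_eq_true ?_; (try (rewrite [Cfsg.Agent.LsF.f1d5f50_6.2, Cfsg.Agent.LsF.f1d5f50_10.2, Cfsg.Agent.LsF.f1d5f50_5.2, Cfsg.Agent.LsF.f1d5f50_15.2, Cfsg.Agent.LsF.instDecEq_eq, Cfsg.Agent.LsF.decLt_eq, Cfsg.Agent.LsF.all_eq, Cfsg.Agent.LsF.map_eq, Cfsg.Agent.LsF.getD_eq, Cfsg.Agent.LsF.instIDecEq_eq, Cfsg.Agent.LsF.dAnd_eq, Cfsg.Agent.LsF.dBoolEq_eq, Cfsg.Agent.LsF.dListEq_eq, Cfsg.Agent.LsF.dBallLT_eq, Cfsg.Agent.LsF.length_eq, Cfsg.Agent.LsF.decide_eq])); decide +kernel)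

private theorem maskL_lt : ∀ l : List ℤ, maskL l < 2 ^ l.length
  | [] => Nat.one_pos
  | a :: t => by
    have := maskL_lt t
    show (a % 2).toNat + 2 * maskL t < 2 ^ (t.length + 1)
    omega

private theorem leechB_of {l : List ℤ} (hl : l.length = 24) (h : vec l ∈ leechLattice) : leechB l = true := by
  obtain ⟨m, z, h1, h2, h3⟩ := (LeechSet.mem_leechLattice_iff' _).1 h
  have h0 : l.headD 0 = m + 2 * z (GolayBase.pt 0) := by
    rw [← h1, vec_apply, GolayBase.idx_pt (by decide)]; cases l <;> rfl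
  have h4 : ∀ i (hi : i < l.length), l[i] = m + 2 * z (GolayBase.pt i) := fun i hi => by
    rw [← h1, vec_apply, GolayBase.idx_pt (hl ▸ hi), List.getD_eq_getElem _ _ hi]
  rw [sum_vec l hl.le] at h2
  have h5 := (GolayBase.mem_golayCode_iff _).1 (golayCode.add_mem h3 (golayCode.smul_mem ((m / 2 : ℤ) : ZMod 2) LeechSet.one_mem_golayCode))
  simp only [leechB, Bool.and_eq_true, List.all_eq_true, decide_eq_true_eq]
  refine ⟨⟨⟨hl ▸ Nat.beq_refl _, fun a ha => ?_⟩, by have : l.sum % 8 = 4 * m % 8 := h2; omega⟩, ?_⟩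
  · obtain ⟨i, hi, rfl⟩ := List.getElem_of_mem ha
    have := h4 i hi
    omega
  · convert h5 using 2
    refine GolayBase.eq_of_testBit_idx (by have := maskL_lt (l.map fun a => (a - l.headD 0 % 2) / 2); rwa [List.length_map, hl] at this)
      (GolayBase.maskW_lt _) fun p => ?_
    have hp : GolayBase.idx p < l.length := hl ▸ GolayBase.idx_lt p
    rw [testBit_maskL, GolayBase.testBit_maskW, List.getD_eq_getElem _ _ (by rwa [List.length_map]), List.getElem_map, h4 _ hp,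
      GolayBase.pt_idx, decide_eq_decide, Pi.add_apply, Pi.smul_apply, Pi.one_apply, smul_eq_mul, mul_one, ← Int.cast_add, Ne,
      ZMod.intCast_zmod_eq_zero_iff_dvd, Nat.cast_ofNat]
    omega

private theorem pres_of {A : List (List ℤ)} (hl : A.length = 24)
    (h : ∀ a b, a < 49 → b < 49 → 64 ∣ ∑ i ∈ range 24, en gens b i * ∑ j ∈ range 24, en A i j * en gens a j) : presB A = true := by
  obtain ⟨⟨d1, d2, d3⟩, d4, d5, d6⟩ := du_ok
  refine List.all_eq_true.2 fun g hg => ?_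
  obtain ⟨a, ha, rfl⟩ := List.getElem_of_mem hg
  rw [← List.getD_eq_getElem _ [] ha]
  have e1 : ∀ i, dotL (gens.getD a []) (A.getD i []) = ∑ j ∈ range 24, en A i j * en gens a j := fun i =>
    (sum_range_getD _ _ 24 (sh_le sh_gens.1 a)).symm.trans (sum_congr rfl fun j _ => mul_comm _ _)
  have h1 : ∀ s, ∃ c : ℤ, s < 24 → ∑ i ∈ range 24, en (sel.map fun a => gens.getD a []) s i * dotL (gens.getD a []) (A.getD i []) = 64 * c :=
    fun s => by
      by_cases hs : s < 24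
      · obtain ⟨c, hc⟩ := h a _ (sh_gens.2 ▸ ha) (d6 s hs).1
        exact ⟨c, fun _ => by simp only [e1]; rw [← hc]; unfold en; rw [(d6 s hs).2]⟩
      · exact ⟨0, fun h => absurd h hs⟩
  choose c hc using h1
  have h2 : ∀ i < 24, dotL (gens.getD a []) (A.getD i []) = 8 * ∑ s ∈ range 24, c s * en du s i := fun i hi => by
    refine mul_left_cancel₀ (show (8 : ℤ) ≠ 0 by decide) ?_
    have e2 : ∑ j ∈ range 24, (∑ s ∈ range 24, en du s i * en (sel.map fun a => gens.getD a []) s j) * dotL (gens.getD a []) (A.getD j []) =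
        8 * dotL (gens.getD a []) (A.getD i []) := by
      rw [sum_eq_single i (fun j hj h => by rw [prd_spec d1 d4 d2 (by decide) d5 hi (mem_range.1 hj), if_neg h.symm, zero_mul])
        (fun h => absurd (mem_range.2 hi) h), prd_spec d1 d4 d2 (by decide) d5 hi hi, if_pos rfl]
    rw [← e2]
    simp only [sum_mul, mul_sum, mul_assoc]
    rw [sum_comm]
    exact sum_congr rfl fun s hs => by rw [← mul_sum, hc s (mem_range.1 hs)]; ring
  refine Bool.and_eq_true_iff.2 ⟨List.all_eq_true.2 fun r hr => decide_eq_true ?_, leechB_of (by rw [List.length_map, hl]) ?_⟩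
  · obtain ⟨i, hi, rfl⟩ := List.getElem_of_mem hr
    rw [← List.getD_eq_getElem _ [] hi, h2 i (hl ▸ hi)]
    exact Int.mul_emod_right _ _
  · have e3 : vec (A.map fun r => dotL (gens.getD a []) r / 8) = ∑ s ∈ range 24, c s • vec (du.getD s []) := funext fun p => by
      have hp : GolayBase.idx p < A.length := hl ▸ GolayBase.idx_lt p
      rw [vec_apply, List.getD_eq_getElem _ _ (by rwa [List.length_map]), List.getElem_map, ← List.getD_eq_getElem _ [] hp,
        h2 _ (GolayBase.idx_lt p), Int.mul_ediv_cancel_left _ (by decide), Finset.sum_apply]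
      rfl
    rw [e3]
    exact sum_mem fun s hs => leechLattice.zsmul_mem
      (vec_mem_of_leechB (List.all_eq_true.1 d3 _ (getD_mem_of_lt _ [] (d2 ▸ mem_range.1 hs)))) _

/-- all checks -/
private noncomputable def okq (R C : List (List ℤ)) : Bool :=
  Nat.beq R.length 24 && Nat.beq C.length 24 && sh R && sh C && trZ R C && prd R R 64 && prd C C 64 && prs R

private theorem ok_of {R C : List (List ℤ)} (h : okq R C = true) : Ok R C := by
  simp only [okq, Bool.and_eq_true] at h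
  obtain ⟨⟨⟨⟨⟨⟨⟨h1, h2⟩, h3⟩, h4⟩, h5⟩, h6⟩, h7⟩, h8⟩ := h
  have hR := Nat.eq_of_beq_eq_true h1
  have hC := Nat.eq_of_beq_eq_true h2
  have ht : ∀ i < 24, ∀ j < 24, en R i j = en C j i := fun i hi j hj => trZ_spec h5 i j (hR ▸ hi) (hC ▸ hj)
  have ble : ∀ {M : List (List ℤ)}, sh M = true → (M.all fun r => Nat.ble r.length 24) = true := fun hM =>
    List.all_eq_true.2 fun r hr => Nat.ble_eq_true_of_le (sh_len hM hr).le
  have orth : ∀ {A B : List (List ℤ)}, sh A = true → sh B = true → A.length = 24 → (∀ i < 24, ∀ j < 24, en A i j = en B j i) →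
      prd A A 64 = true → orthB B = true := fun {A B} hA hB hl ht hp =>
    List.all_eq_true.2 fun i hi => List.all_eq_true.2 fun j hj => decide_eq_true (by
      rw [← prd_spec hA hA hl (by decide) hp (List.mem_range.1 hi) (List.mem_range.1 hj), ← sum_range_getD _ _ 24 (sh_le hB i)]
      exact sum_congr rfl fun k hk => (congrArg₂ _ (ht k (mem_range.1 hk) i (List.mem_range.1 hi))
        (ht k (mem_range.1 hk) j (List.mem_range.1 hj))).symm)
  refine ⟨hR, hC, ble h3, ble h4, List.all_eq_true.2 fun i hi => List.all_eq_true.2 fun j hj =>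
    decide_eq_true (ht i (List.mem_range.1 hi) j (List.mem_range.1 hj)), orth h4 h3 hC (fun i hi j hj => (ht j hj i hi).symm) h7,
    orth h3 h4 hR ht h6, pres_of hR (prs_spec h3 h8), pres_of hC fun a b ha hb => ?_⟩
  convert prs_spec h3 h8 b a hb ha using 1
  simp only [mul_sum]
  rw [sum_comm]
  exact sum_congr rfl fun i hi => sum_congr rfl fun j hj => by rw [ht i (mem_range.1 hi) j (mem_range.1 hj)]; ring

private theorem orthZ_of : ∀ R : List (List ℤ), (∀ i < R.length, ∀ j < R.length,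
    dotL (R.getD i []) (R.getD j []) = if i = j then 64 else 0) → orthZ R = true
  | [], _ => rfl
  | r :: t, h => Bool.and_eq_true_iff.2 ⟨Bool.and_eq_true_iff.2 ⟨decide_eq_true ((dotZ_eq r r).trans (h 0 (Nat.succ_pos _) 0 (Nat.succ_pos _))),
      List.all_eq_true.2 fun s hs => decide_eq_true (by
        obtain ⟨j, hj, rfl⟩ := List.getElem_of_mem hs
        rw [dotZ_eq, ← List.getD_eq_getElem _ [] hj]
        exact h 0 (Nat.succ_pos _) (j + 1) (Nat.succ_lt_succ hj))⟩,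
      orthZ_of t fun i hi j hj => (h (i + 1) (Nat.succ_lt_succ hi) (j + 1) (Nat.succ_lt_succ hj)).trans
        (if_congr Nat.succ_inj rfl rfl)⟩

/-- the slow check follows -/
private theorem okz_of {R C : List (List ℤ)} (h : okq R C = true) : okZ R C = true := by
  have ho := ok_of h
  simp only [okq, Bool.and_eq_true] at h
  obtain ⟨⟨⟨⟨⟨⟨⟨h1, h2⟩, h3⟩, h4⟩, h5⟩, -⟩, -⟩, -⟩ := h
  have len : ∀ {M : List (List ℤ)}, sh M = true → (M.all fun r => Nat.beq r.length 24) = true := fun hM =>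
    List.all_eq_true.2 fun r hr => (Bool.and_eq_true_iff.1 (List.all_eq_true.1 hM r hr)).1
  have orth : ∀ {M : List (List ℤ)}, M.length = 24 → orthB M = true → orthZ M = true := fun {M} hM hB => orthZ_of M fun i hi j hj =>
    of_decide_eq_true (List.all_eq_true.1 (List.all_eq_true.1 hB i (List.mem_range.2 (hM ▸ hi))) j (List.mem_range.2 (hM ▸ hj)))
  have pres : ∀ {M : List (List ℤ)}, presB M = true → presZ M = true := fun {M} hB => List.all_eq_true.2 fun g hg => by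
    obtain ⟨p1, p2⟩ := Bool.and_eq_true_iff.1 (List.all_eq_true.1 hB g hg)
    refine Bool.and_eq_true_iff.2 ⟨List.all_eq_true.2 fun a ha => ?_, ?_⟩
    · obtain ⟨r, hr, rfl⟩ := List.mem_map.1 ha
      rw [dotZ_eq, of_decide_eq_true (List.all_eq_true.1 p1 r hr)]
      rfl
    · rw [List.map_map]
      exact (congrArg (fun f => leechB (List.map f M)) (funext fun r => congrArg (· / 8) (dotZ_eq g r))).trans p2
  exact Bool.and_eq_true_iff.2 ⟨Bool.and_eq_true_iff.2 ⟨Bool.and_eq_true_iff.2 ⟨Bool.and_eq_true_iff.2 ⟨Bool.and_eq_true_iff.2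
    ⟨Bool.and_eq_true_iff.2 ⟨Bool.and_eq_true_iff.2 ⟨Bool.and_eq_true_iff.2 ⟨h1, h2⟩, len h3⟩, len h4⟩, h5⟩, orth ho.lenR ho.oR⟩,
    orth ho.lenC ho.oC⟩, pres ho.pR⟩, pres ho.pC⟩

section
open Cfsg.Agent.CoOneType.CoEval (ap length_ap)
open Cfsg.Agent.LThreeMB.Fix (addL mulL res halfB latB getD_addL length_addL vec_addL lat_spec length_of_leechB tri)

private def tn (R : List (List ℤ)) : ℕ → List ℤ → List ℤ
  | 0, _ => []
  | n + 1, l => addL l (tn R n (ap R l))

private theorem getD_mulL (c : ℤ) (l : List ℤ) (j : ℕ) : (mulL c l).getD j 0 = c * l.getD j 0 := by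
  have : (l.map fun a => c * a).getD j (c * 0) = c * l.getD j 0 := List.getD_map (f := fun a => c * a) ..
  rwa [mul_zero] at this

private theorem dcomm {r l : List ℤ} (hr : r.length ≤ 24) (hl : l.length ≤ 24) : dotL r l = dotL l r := by
  rw [← dotInt_vec _ _ hr, dotInt_comm, dotInt_vec _ _ hl]

private def Lt (l : List ℤ) : Prop := l.length = 24 ∧ vec l ∈ leechLattice

private def Bd (c : ℤ) (l : List ℤ) : Prop := ∀ j, |l.getD j 0| ≤ c

private def Pq (s : ℤ) (F : ℕ → List ℤ) (G : List ℤ) : Prop :=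
  ∀ j < 24, G.getD j 0 = s * ∑ a ∈ range 49, (F a).getD j 0 * (2 ^ 256) ^ a

private theorem ap_get {R : List (List ℤ)} (l : List ℤ) {j : ℕ} (hj : j < R.length) :
    (ap R l).getD j 0 = dotL l (R.getD j []) / 8 := by
  show (R.map fun r => dotL l r / 8).getD j 0 = _
  rw [List.getD_eq_getElem _ _ (by rwa [List.length_map]), List.getElem_map, List.getD_eq_getElem _ _ hj]

private theorem lt_ap {R : List (List ℤ)} (hl : R.length = 24) (hp : presB R = true) {l : List ℤ} (h : Lt l) :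
    Lt (ap R l) ∧ ∀ j < 24, 8 ∣ dotL l (R.getD j []) := by
  obtain ⟨h1, h2⟩ := act_mem hl hp _ h.2
  refine ⟨⟨length_ap hl l, (act_vec hl h.1.le) ▸ h2⟩, fun j hj => ?_⟩
  have h3 : (8 : ℤ) ∣ dotInt (vec l) (vec (R.getD (GolayBase.idx (GolayBase.pt j)) [])) := h1 _
  rwa [GolayBase.idx_pt hj, dotInt_vec _ _ h.1.le] at h3

private theorem lt_tn {R : List (List ℤ)} (hl : R.length = 24) (hp : presB R = true) : ∀ (n : ℕ) {l : List ℤ}, Lt l →
    (tn R n l).length ≤ 24 ∧ vec (tn R n l) ∈ leechLattice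
  | 0, _, _ => ⟨Nat.zero_le _, (show (0 : GolayPt → ℤ) = vec [] from funext fun _ => rfl) ▸ leechLattice.zero_mem⟩
  | n + 1, l, h => by
    obtain ⟨h1, h2⟩ := lt_tn hl hp n (lt_ap hl hp h).1
    show (addL l (tn R n (ap R l))).length ≤ 24 ∧ vec (addL l (tn R n (ap R l))) ∈ leechLattice
    rw [length_addL, vec_addL]
    exact ⟨max_le h.1.le h1, leechLattice.add_mem h.2 h2⟩

private theorem bd_dot {c : ℤ} {l r : List ℤ} (hr : r.length ≤ 24) (h : Bd c l) (h' : Bd 1000 r) : |dotL r l| ≤ 24000 * c := by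
  rw [← sum_range_getD _ _ 24 hr]
  exact (abs_sum fun i => abs_mul' (h' i) (h i)).trans_eq (by ring)

private theorem abs_div {x c : ℤ} (h : |x| ≤ c) : |x / 8| ≤ c := by
  rw [abs_le] at h ⊢
  omega

private theorem bd_tn {R : List (List ℤ)} (hR : sh R = true) (hl : R.length = 24) : ∀ (n : ℕ) {c : ℤ} {l : List ℤ},
    l.length = 24 → Bd c l → Bd (32768 ^ n * c) (tn R n l)
  | 0, c, _, _, h => fun j => (show |(0 : ℤ)| ≤ c from abs_zero.trans_le ((abs_nonneg _).trans (h 0))).trans_eq (by ring)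
  | n + 1, c, l, h1, h => fun j => by
    have hc : 0 ≤ c := (abs_nonneg _).trans (h 0)
    have h2 : Bd (24000 * c) (ap R l) := fun i => by
      by_cases hi : i < R.length
      · rw [ap_get l hi, dcomm h1.le (sh_le hR i)]
        exact abs_div (bd_dot (sh_le hR i) h (sh_abs hR i))
      · rw [List.getD_eq_default _ _ (by rw [length_ap hl, ← hl]; exact not_lt.1 hi), abs_zero]
        exact mul_nonneg (by decide) hc
    have h3 := bd_tn hR hl n (length_ap hl l) h2 j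
    have h4 : (1 : ℤ) * c ≤ 32768 ^ n * c := mul_le_mul_of_nonneg_right (one_le_pow₀ (by decide)) hc
    show |(addL l (tn R n (ap R l))).getD j 0| ≤ _
    rw [getD_addL, pow_succ]
    refine (abs_add_le _ _).trans ?_
    linarith only [h j, h3, h4, hc]

private theorem bd_res {c : ℤ} {l : List ℤ} (hl : l.length = 24) (h : Bd c l) : ∀ vw : List (List ℤ × List ℤ),
    sh (vw.map Prod.fst) = true → sh (vw.map Prod.snd) = true →
    (res l vw).length = 24 ∧ Bd ((1 + vw.length * 24000000) * c) (res l vw)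
  | [], _, _ => ⟨hl, fun j => (h j).trans_eq (by simp)⟩
  | p :: t, h1, h2 => by
    obtain ⟨h3, h4⟩ := bd_res hl h t (Bool.and_eq_true_iff.1 h1).2 (Bool.and_eq_true_iff.1 h2).2
    have h5 : p.1.length = 24 := sh_len h1 List.mem_cons_self
    have h6 : p.2.length = 24 := sh_len h2 List.mem_cons_self
    refine ⟨?_, fun j => ?_⟩
    · show (addL (p.1.map _) (res l t)).length = 24
      rw [length_addL, List.length_map, h5, h3, max_self]
    · show |(addL (mulL (-(dotL l p.2 / 8)) p.1) (res l t)).getD j 0| ≤ _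
      have h7 : |-(dotL l p.2 / 8)| ≤ 24000 * c := by
        rw [abs_neg, dcomm hl.le h6.le]
        exact abs_div (bd_dot h6.le h (sh_abs h2 0))
      have h8 := abs_mul' h7 (show |p.1.getD j 0| ≤ 1000 from sh_abs h1 0 j)
      rw [getD_addL, getD_mulL, List.length_cons, Nat.cast_succ]
      refine (abs_add_le _ _).trans ?_
      linarith only [h8, h4 j]

private theorem dot_pq {s : ℤ} {F : ℕ → List ℤ} {G : List ℤ} (h : Pq s F G) {r : List ℤ} (hr : r.length ≤ 24) :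
    dotL r G = s * ∑ a ∈ range 49, dotL r (F a) * (2 ^ 256) ^ a := by
  rw [← sum_range_getD _ _ 24 hr, sum_congr rfl fun j hj => congrArg _ (h j (mem_range.1 hj))]
  simp only [← sum_range_getD r _ 24 hr, sum_mul, mul_sum]
  rw [sum_comm]
  exact sum_congr rfl fun a _ => sum_congr rfl fun j _ => by ring

private noncomputable def lq (R : List (List ℤ)) (n : ℕ) : List ℤ → List ℤ → List ℤ :=
  Nat.rec (fun _ A => A) (fun _ ih G A => ih (mv R G) (mulL 8 (addL A G))) n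

private theorem lq_spec {R : List (List ℤ)} (hR : sh R = true) (hl : R.length = 24) (hp : presB R = true) :
    ∀ (n : ℕ) {s : ℤ} {F : ℕ → List ℤ} {G : List ℤ} (A : List ℤ), (∀ a < 49, Lt (F a)) → Pq s F G → ∀ j < 24,
      (lq R n G A).getD j 0 = 8 ^ n * (A.getD j 0 + s * ∑ a ∈ range 49, (tn R n (F a)).getD j 0 * (2 ^ 256) ^ a)
  | 0, s, F, G, A, _, _, j, _ => by
    show A.getD j 0 = 8 ^ 0 * (A.getD j 0 + s * ∑ a ∈ range 49, (0 : ℤ) * (2 ^ 256) ^ a)
    simp only [zero_mul, sum_const_zero, mul_zero, add_zero, pow_zero, one_mul]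
  | n + 1, s, F, G, A, hF, hG, j, hj => by
    have h1 : Pq (8 * s) (fun a => ap R (F a)) (mv R G) := fun i hi => by
      rw [mv_get, dot_pq hG (sh_le hR i), mul_comm 8 s, mul_assoc, mul_sum _ _ 8]
      refine congrArg _ (sum_congr rfl fun a ha => ?_)
      rw [ap_get _ (hl ▸ hi), ← mul_assoc, Int.mul_ediv_cancel' ((lt_ap hl hp (hF a (mem_range.1 ha))).2 i hi),
        dcomm (sh_le hR i) (hF a (mem_range.1 ha)).1.le]
    refine (lq_spec hR hl hp n (mulL 8 (addL A G)) (fun a ha => (lt_ap hl hp (hF a ha)).1) h1 j hj).trans ?_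
    show _ = _ * (_ + s * ∑ a ∈ range 49, (addL (F a) (tn R n (ap R (F a)))).getD j 0 * (2 ^ 256) ^ a)
    simp only [getD_mulL, getD_addL, add_mul, sum_add_distrib, hG j hj]
    ring

private noncomputable def rq (T : List ℤ) (vw : List (List ℤ × List ℤ)) : List ℤ :=
  List.rec (mulL 8 T) (fun p _ ih => addL (mulL (-dk p.2 T 0 0) p.1) ih) vw

private theorem rq_spec {s : ℤ} {F : ℕ → List ℤ} {T : List ℤ} (hF : ∀ a < 49, Lt (F a)) (hT : Pq s F T) :
    ∀ vw : List (List ℤ × List ℤ), latB vw = true → Pq (8 * s) (fun a => res (F a) vw) (rq T vw)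
  | [], _ => fun j hj => (getD_mulL 8 T j).trans (by rw [hT j hj, mul_assoc]; rfl)
  | p :: t, h => fun j hj => by
    have h1 := (lat_spec h List.mem_cons_self).2
    have h2 := (length_of_leechB h1).le
    show (addL (mulL (-dk p.2 T 0 0) p.1) (rq T t)).getD j 0 =
      _ * ∑ a ∈ range 49, (addL (mulL (-(dotL (F a) p.2 / 8)) p.1) (res (F a) t)).getD j 0 * (2 ^ 256) ^ a
    have h3 : ∀ a ∈ range 49, dotL p.2 (F a) * (2 ^ 256) ^ a = 8 * (dotL (F a) p.2 / 8 * (2 ^ 256) ^ a) := fun a ha => by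
      have h4 := Cfsg.Agent.MonsterU.Lam2.dvd_dot ⟨_, (hF a (mem_range.1 ha)).2⟩ ⟨_, vec_mem_of_leechB h1⟩
      rw [dotInt_vec _ _ (hF a (mem_range.1 ha)).1.le] at h4
      rw [← mul_assoc, Int.mul_ediv_cancel' h4, dcomm h2 (hF a (mem_range.1 ha)).1.le]
    rw [getD_addL, getD_mulL, dk0, dot_pq hT h2, sum_congr rfl h3, ← mul_sum, rq_spec hF hT t (Bool.and_eq_true_iff.1 h).2 j hj]
    simp only [getD_mulL, getD_addL, add_mul, sum_add_distrib, neg_mul, sum_neg_distrib, mul_right_comm _ (p.1.getD j 0),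
      ← sum_mul]
    ring

private def ts1 (n : ℕ) (N : ℤ) : Bool :=
  Nat.beq (Nat.land (N + Int.ofNat (Nat.mul (Nat.pow 2 255) (jj 256 n))).toNat (Nat.mul 15 (jj 256 n))) 0

private theorem key1 {n : ℕ} (d : ℕ → ℤ) (hd : ∀ a, |d a| < 2 ^ 255) (h : ts1 n (∑ a ∈ range n, d a * (2 ^ 256) ^ a) = true) (a : ℕ)
    (ha : a < n) : 16 ∣ d a := by
  have h1 : ∀ a, (((d a + 2 ^ 255).toNat : ℕ) : ℤ) = d a + 2 ^ 255 := fun a =>
    Int.toNat_of_nonneg (by linarith only [(abs_lt.1 (hd a)).1])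
  have h2 : ∀ a, (d a + 2 ^ 255).toNat < 2 ^ 256 := fun a => by
    have := (abs_lt.1 (hd a)).2
    have := h1 a
    omega
  have h4 := Nat.eq_of_beq_eq_true h
  have e1 : (∑ a ∈ range n, d a * (2 ^ 256) ^ a) + Int.ofNat (Nat.mul (Nat.pow 2 255) (jj 256 n)) =
      ((∑ a ∈ range n, (d a + 2 ^ 255).toNat * (2 ^ 256) ^ a : ℕ) : ℤ) := by
    show _ + ((2 ^ 255 * jj 256 n : ℕ) : ℤ) = _
    rw [jj_eq (by decide)]
    simp only [Nat.cast_sum, Nat.cast_mul, Nat.cast_pow, Nat.cast_ofNat, h1, add_mul, sum_add_distrib]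
    rw [← mul_sum]
  have e2 : Nat.mul 15 (jj 256 n) = ∑ a ∈ range n, 15 * (2 ^ 256) ^ a := by
    show 15 * jj 256 n = _
    rw [jj_eq (by decide), ← mul_sum]
  rw [e1, e2, Int.toNat_natCast] at h4
  have h5 : (d a + 2 ^ 255).toNat &&& (2 ^ 4 - 1) = 0 := land_dig 256 15 (by decide) n _ h2 h4 a ha
  rw [Nat.and_two_pow_sub_one_eq_mod] at h5
  have := h1 a
  omega

private theorem half_of {l : List ℤ} (hl : l.length = 24)
    (h : ∀ s < 24, 16 ∣ dotL ((sel.map fun a => gens.getD a []).getD s []) l) : halfB l = true := by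
  obtain ⟨⟨d1, d2, d3⟩, d4, d5, -⟩ := du_ok
  have h1 : ∀ s, ∃ c : ℤ, s < 24 → ∑ i ∈ range 24, en (sel.map fun a => gens.getD a []) s i * l.getD i 0 = 16 * c := fun s => by
    by_cases hs : s < 24
    · obtain ⟨c, hc⟩ := h s hs
      exact ⟨c, fun _ => (sum_range_getD _ _ 24 (sh_le d4 s)).trans hc⟩
    · exact ⟨0, fun h => absurd h hs⟩
  choose c hc using h1
  have h2 : ∀ i < 24, l.getD i 0 = 2 * ∑ s ∈ range 24, c s * en du s i := fun i hi => by
    refine mul_left_cancel₀ (show (8 : ℤ) ≠ 0 by decide) ?_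
    have e2 : ∑ j ∈ range 24, (∑ s ∈ range 24, en du s i * en (sel.map fun a => gens.getD a []) s j) * l.getD j 0 = 8 * l.getD i 0 := by
      rw [sum_eq_single i (fun j hj h => by rw [prd_spec d1 d4 d2 (by decide) d5 hi (mem_range.1 hj), if_neg h.symm, zero_mul])
        (fun h => absurd (mem_range.2 hi) h), prd_spec d1 d4 d2 (by decide) d5 hi hi, if_pos rfl]
    rw [← e2]
    simp only [sum_mul, mul_sum, mul_assoc]
    rw [sum_comm]
    exact sum_congr rfl fun s hs => by rw [← mul_sum, hc s (mem_range.1 hs)]; ring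
  refine Bool.and_eq_true_iff.2 ⟨List.all_eq_true.2 fun r hr => decide_eq_true ?_, leechB_of (by rw [List.length_map, hl]) ?_⟩
  · obtain ⟨i, hi, rfl⟩ := List.getElem_of_mem hr
    rw [← List.getD_eq_getElem _ 0 hi, h2 i (hl ▸ hi)]
    exact Int.mul_emod_right _ _
  · have e3 : vec (l.map fun a => a / 2) = ∑ s ∈ range 24, c s • vec (du.getD s []) := funext fun p => by
      have hp : GolayBase.idx p < l.length := hl ▸ GolayBase.idx_lt p
      rw [vec_apply, List.getD_eq_getElem _ _ (by rwa [List.length_map]), List.getElem_map, ← List.getD_eq_getElem _ 0 hp,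
        h2 _ (GolayBase.idx_lt p), Int.mul_ediv_cancel_left _ (by decide), Finset.sum_apply]
      rfl
    rw [e3]
    exact sum_mem fun s hs => leechLattice.zsmul_mem
      (vec_mem_of_leechB (List.all_eq_true.1 d3 _ (getD_mem_of_lt _ [] (d2 ▸ mem_range.1 hs)))) _

/-- the check for `1 + R + .. + R ^ n` -/
private noncomputable def spq (n : ℕ) (R : List (List ℤ)) (vw : List (List ℤ × List ℤ)) : Bool :=
  Nat.beq R.length 24 && sh R && prs R && Nat.ble n 11 && Nat.ble vw.length 24 && sh (vw.map Prod.fst) && sh (vw.map Prod.snd) &&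
    latB vw && (mv (sel.map fun a => gens.getD a []) (rq (lq R (Nat.succ n) (pk (Int.ofNat (Nat.pow 2 256)) gens) []) vw)).all
      fun N => ts1 49 (N / Int.ofNat (Nat.pow 8 (Nat.add n 2)))

private theorem spq_spec {n : ℕ} {R : List (List ℤ)} {vw : List (List ℤ × List ℤ)} (h : spq n R vw = true) :
    (gens.all fun g => halfB (res (tn R (n + 1) g) vw)) = true := by
  simp only [spq, Bool.and_eq_true] at h
  obtain ⟨⟨⟨⟨⟨⟨⟨⟨h1, hR⟩, h3⟩, h4⟩, h5⟩, h6⟩, h7⟩, h8⟩, h9⟩ := h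
  have hl := Nat.eq_of_beq_eq_true h1
  have hp := pres_of hl (prs_spec hR h3)
  have d4 := du_ok.2.1
  have hg : ∀ a < 49, Lt (gens.getD a []) := fun a ha =>
    have hm := getD_mem_of_lt gens [] (sh_gens.2 ▸ ha)
    ⟨sh_len sh_gens.1 hm, vec_mem_of_leechB (List.all_eq_true.1 gens_leech _ hm)⟩
  have ht : ∀ a < 49, Lt (tn R (n + 1) (gens.getD a [])) := fun a ha => by
    refine ⟨?_, (lt_tn hl hp _ (hg a ha)).2⟩
    show (addL _ _).length = 24
    rw [length_addL, (hg a ha).1]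
    exact max_eq_left (lt_tn hl hp n (lt_ap hl hp (hg a ha)).1).1
  have p0 : Pq 1 (fun a => gens.getD a []) (pk (Int.ofNat (Nat.pow 2 256)) gens) := fun j hj => by
    rw [(pk_spec _ _ sh_gens.1).2 j hj, sh_gens.2, one_mul, show Int.ofNat (Nat.pow 2 256) = 2 ^ 256 from Nat.cast_pow 2 256]
    rfl
  have p1 : Pq (8 ^ (n + 1)) (fun a => tn R (n + 1) (gens.getD a [])) (lq R (n + 1) (pk (Int.ofNat (Nat.pow 2 256)) gens) []) :=
    fun j hj => by rw [lq_spec hR hl hp _ [] hg p0 j hj, List.getD_nil, zero_add, one_mul]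
  have p2 := rq_spec ht p1 vw h8
  have hb : ∀ a < 49, (res (tn R (n + 1) (gens.getD a [])) vw).length = 24 ∧
      Bd (2 ^ 230) (res (tn R (n + 1) (gens.getD a [])) vw) := fun a ha => by
    obtain ⟨b1, b2⟩ := bd_res (ht a ha).1 (bd_tn hR hl (n + 1) (hg a ha).1 (sh_abs sh_gens.1 a)) vw h6 h7
    refine ⟨b1, fun j => (b2 j).trans ?_⟩
    have b3 : (32768 : ℤ) ^ (n + 1) ≤ 32768 ^ 12 := pow_le_pow_right₀ (by decide) (Nat.succ_le_succ (Nat.le_of_ble_eq_true h4))
    have b4 : (vw.length : ℤ) ≤ 24 := Int.ofNat_le.2 (Nat.le_of_ble_eq_true h5)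
    exact (mul_le_mul (show _ ≤ (1 + 24 * 24000000 : ℤ) by linarith only [b4]) (mul_le_mul_of_nonneg_right b3 (by decide))
      (mul_nonneg (pow_nonneg (by decide) _) (by decide)) (by decide)).trans (by decide)
  refine List.all_eq_true.2 fun g hg' => ?_
  obtain ⟨a, ha, rfl⟩ := List.getElem_of_mem hg'
  rw [← List.getD_eq_getElem _ [] ha]
  rw [sh_gens.2] at ha
  refine half_of (hb a ha).1 fun s hs => ?_
  have k1 := List.all_eq_true.1 h9 _ (getD_mem_of_lt _ 0 (show s < _ by rw [mv_len, List.length_map]; exact hs))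
  rw [mv_get, dot_pq p2 (sh_le d4 s), show Int.ofNat (Nat.pow 8 (Nat.add n 2)) = 8 * 8 ^ (n + 1) from
    (Nat.cast_pow 8 (n + 2)).trans (pow_succ' _ _), Int.mul_ediv_cancel_left _ (by positivity)] at k1
  have k2 := key1 (fun a => if a < 49 then dotL ((sel.map fun a => gens.getD a []).getD s [])
    (res (tn R (n + 1) (gens.getD a [])) vw) else 0) (fun a => by
      split_ifs with ha
      · exact lt_of_le_of_lt (bd_dot (sh_le d4 s) (hb a ha).2 (sh_abs d4 s)) (by decide)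
      · decide) (by rw [sum_congr rfl fun a ha => by rw [if_pos (mem_range.1 ha)]]; exact k1) a ha
  rwa [if_pos ha] at k2

private theorem spanN {n : ℕ} {R : List (List ℤ)} {vw : List (List ℤ × List ℤ)} (h : spq n R vw = true) :
    Cfsg.Agent.MFive.FixN.spanB (n + 1) R vw = true := by
  have e : ∀ (k : ℕ) (l : List ℤ), Cfsg.Agent.MFive.FixN.trn R k l = tn R k l := fun k => by
    induction k with
    | zero => exact fun _ => rfl
    | succ k ih => exact fun l => congrArg (addL l) (ih _)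
  exact (congrArg (fun f => gens.all f) (funext fun g => congrArg (fun x => halfB (res x vw)) (e _ g))).trans (spq_spec h)
end

end Cfsg.Agent.Co0Q_H799_RO_CoNine

/-!
# Elements of orders 2 and 9 of `Co3` (helper799)

`gA` inverts `gX` (of order 9, fixed rank 4); `gT` is an involution commuting with `gY` (of order 9, fixed rank 2).

Generated by a script; checked by the kernel.
-/

set_option autoImplicit false
set_option maxRecDepth 100000

namespace Cfsg.Agent.H799.RO.CoNine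

open Cfsg Cfsg.Agent.SporadicA Cfsg.Agent.SporadicStructure.Co0Matrix Cfsg.Agent.CoOneType.CoEval
open Cfsg.Agent.LThreeCo1.Ev Cfsg.Agent.LThreeMB.Fix Cfsg.Agent.MFive.FixN Cfsg.Agent.H573.Spor.Co0
open Cfsg.Agent.LThreeMB (fr)
open Cfsg.Spor (Co1)

/-- matrix code -/
def nA : ℕ := 0xa4a5094a50942108421084a50949d2941928421284a4e939ce74212842109320e8420e84a4e749d29421284210849d074a509421084210a3a5093a4e9420e8421283a5273a4e9419284210942128421283a52749d27420e83210942128418e839d2939d29421284210849d0949d07421085210839d094a52942128420e83a4e94a4e9420e6421084a50739d0742908421084a5094a4e84a50949d09521084210849d073a4e839d094a50742148421084a5074a4e849d073a509421084214849d074a5283a50749d4942108421083a5074a52839d0939d0942108429084a5093a5283a5074a5074210a4210849d093a5283a5493a509421084210839d094a4e9420e8420e84a5293a527320e84210942126420e849d274a4e742128421084a5093a50742108421083a5473a529421284212649ce73a529420e842109420e83212849d2949ce9420e84210742128421284a5294a5294212841909420e84212839ce94a52742128420c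

/-- matrix code -/
def nX : ℕ := 0xa425294a507421094a129421284a1094a1084192839ce8425083a50742528424e94a549421074a0e9420e83a1093a108420e83a52841d084a507325293a108420e84a4e84250839cc94252841ce749d09421094a1294212a3a10851d294a509421093a127420e83a1094a108321283a4e841d0849d0941d2841d274a509421073a0e9421284a1474a108421264a528425084a509425284252939d09521073a129421283a108424e73a509421093a129428e84a10841d2939d09421494a0e9420e84a10939908421284a4e8425084a50741ce94a106421284a52841d0839d07424e94a108420e83a526425083a50941ce94a0c8420e849d284250849d0741d293a1084212839d283250849d09424e8425273a509421094a8e7421283a1094a108420e849ce841cc84a509424e8424e949d09429093a0e7421284a10841ce93a509421074a127421284a9084252749d09421074a127520e84a1093a1084212849d2841d063a50941d2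

/-- matrix code -/
def nY : ℕ := 0xa425094a1094a1084a5084a52742508525094a1094a10839d0849ce941d09498e84252841ce7420e9421084a1294a0e8424e8424e942129321083a0e93a0e841d2841d2941929421084a0e841d494a1093a10849d083a52941d08425093a1074a1084a5083a4e951d08425074a1073a1083a50a4a52941d094a1284252641d2742127421083a0e841d073a1094a1084a54849d2941d093a128424e841ce932127421084a1274a128425284252942129421064a1293a12841d28424e742129420c83a128425093a1493a1083a50839d29425094a0e841ce83252742127421084a1294a12641d28424e9420e7421084a0e841d093a1074a90839d084a529425093a128424e842527420e9419084a0e94a12831ce841d29420e9421083a128425073a9093a10849d084a4e94250841d074a1094a1483a5083a4e94250841d094a1073a10a4a50849ce942508425074a1074a10849d0839d29425493a0e84252842529420e7421083992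

/-- matrix code -/
def nT : ℕ := 0xa42108421094a508425084212952528521084214949d0842508420e941ce8429084210739d08425484212941d2842148421074a50851d084212941ce84210a421073a54842508420e9424e8421085210939d0841d0852129424e842108429093a508425084292741ce852108421473a50841d08421274252949ce74a4e8421274a12939d083a10949d2739ce8421293a1274a5083a10939d293a528420e73a12949d083a1084210a4210949d4841d084212741d28421084210749d0a4250a42127424e8421484210939d0852508420e7425294a4e93a4e8420e94a0e749d083a10842908421094a50841d48420e7424e842108421093a50a41d0a420e941d2842108521074a50842508520e741d28421084290749d0841d08428e9425293a5274a528421293a0e739d083a1094a52949ce8420e73a0e93a5083a10a421084210739d0841d08420e751ce939ce949d28420e94a1273a5083a1093a4e739d28421274a0e94a5083a10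

private noncomputable def _root_.Cfsg.Agent.LsF.f1d5f50_16 : {f // @Cfsg.Agent.CoOneType.CoFast.eqM.eqR = f} := ⟨_, by first | (delta Cfsg.Agent.CoOneType.CoFast.eqM.eqR List.brecOn List.brecOn.go Cfsg.Agent.CoOneType.CoFast.eqM.eqR._f; rewrite [Cfsg.Agent.LsF.and_eq, Cfsg.Agent.LsF.instIDecEq_eq, Cfsg.Agent.LsF.decide_eq]; (try delta Cfsg.Agent.CoOneType.CoFast.eqM.eqR.match_1); (try delta Cfsg.Agent.CoOneType.CoFast.eqM.eqR._sparseCasesOn_1); (try delta Cfsg.Agent.CoOneType.CoFast.dotZ._sparseCasesOn_4); (try delta List.casesOn); first | dsimp -zeta only | exact rfl) | exact rfl⟩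
private noncomputable def _root_.Cfsg.Agent.LsF.f1d5f50_17 : {f // @Cfsg.Agent.CoOneType.CoFast.hd = f} := ⟨_, by first | (delta Cfsg.Agent.CoOneType.CoFast.hd; rewrite [Cfsg.Agent.LsF.map_eq, Cfsg.Agent.LsF.headD_eq]; exact rfl) | exact rfl⟩
private noncomputable def _root_.Cfsg.Agent.LsF.f1d5f50_18 : {f // @Cfsg.Agent.CoOneType.CoFast.tl = f} := ⟨_, by first | (delta Cfsg.Agent.CoOneType.CoFast.tl; rewrite [Cfsg.Agent.LsF.map_eq, Cfsg.Agent.LsF.tail_eq]; exact rfl) | exact rfl⟩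
private noncomputable def _root_.Cfsg.Agent.LsF.f1d5f50_19 : {f // @Cfsg.Agent.CoOneType.CoFast.trZ = f} := ⟨_, by first | (delta Cfsg.Agent.CoOneType.CoFast.trZ List.brecOn Cfsg.Agent.CoOneType.CoFast.trZ._f List.brecOn.go; rewrite [Cfsg.Agent.LsF.f1d5f50_16.2, Cfsg.Agent.LsF.f1d5f50_17.2, Cfsg.Agent.LsF.f1d5f50_18.2, Cfsg.Agent.LsF.and_eq]; (try delta Cfsg.Agent.CoOneType.CoFast.trZ.match_1); (try delta List.casesOn); first | dsimp -zeta only | exact rfl) | exact rfl⟩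
private noncomputable def _root_.Cfsg.Agent.LsF.f1d5f50_20 : {f // @Cfsg.Agent.Co0Q_H799_RO_CoNine.prs = f} := ⟨_, by first | (delta Cfsg.Agent.Co0Q_H799_RO_CoNine.prs; rewrite [Cfsg.Agent.LsF.f1d5f50_11.2, Cfsg.Agent.LsF.f1d5f50_12.2, Cfsg.Agent.LsF.f1d5f50_1.2, Cfsg.Agent.LsF.f1d5f50_13.2]; exact rfl) | exact rfl⟩
private noncomputable def _root_.Cfsg.Agent.LsF.f1d5f50_21 : {f // @Cfsg.Agent.Co0Q_H799_RO_CoNine.okq = f} := ⟨_, by first | (delta Cfsg.Agent.Co0Q_H799_RO_CoNine.okq; rewrite [Cfsg.Agent.LsF.f1d5f50_6.2, Cfsg.Agent.LsF.f1d5f50_19.2, Cfsg.Agent.LsF.f1d5f50_15.2, Cfsg.Agent.LsF.f1d5f50_20.2, Cfsg.Agent.LsF.and_eq, Cfsg.Agent.LsF.length_eq]; exact rfl) | exact rfl⟩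
private noncomputable def _root_.Cfsg.Agent.LsF.f1d5f50_22 : {f // @Cfsg.Agent.LThreeCo1.Ev.decRow = f} := ⟨_, by first | (delta Cfsg.Agent.LThreeCo1.Ev.decRow Nat.brecOn.go Nat.brecOn Cfsg.Agent.LThreeCo1.Ev.decRow._f; rewrite [Cfsg.Agent.LsF.f1d5f50_0.2, Cfsg.Agent.LsF.ndiv_pat, Cfsg.Agent.LsF.nmod_pat]; (try delta Cfsg.Agent.LThreeCo1.Ev.decRow.match_1); (try delta Nat.casesOn); first | dsimp -zeta only | exact rfl) | exact rfl⟩
private noncomputable def _root_.Cfsg.Agent.LsF.f1d5f50_23 : {f // @Cfsg.Agent.LThreeCo1.Ev.decRows = f} := ⟨_, by first | (delta Cfsg.Agent.LThreeCo1.Ev.decRows Nat.brecOn.go Cfsg.Agent.LThreeCo1.Ev.decRows._f Nat.brecOn; rewrite [Cfsg.Agent.LsF.f1d5f50_22.2, Cfsg.Agent.LsF.ndiv_pat, Cfsg.Agent.LsF.nmod_pat, Cfsg.Agent.LsF.npow_pat]; (try delta Cfsg.Agent.LThreeCo1.Ev.decRow.match_1); (try delta Nat.casesOn); first | dsimp -zeta only | exact rfl) | exact rfl⟩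
private noncomputable def _root_.Cfsg.Agent.LsF.f1d5f50_24 : {f // @Cfsg.Agent.LThreeCo1.Ev.dec = f} := ⟨_, by first | (delta Cfsg.Agent.LThreeCo1.Ev.dec; rewrite [Cfsg.Agent.LsF.f1d5f50_23.2]; exact rfl) | exact rfl⟩
private noncomputable def _root_.Cfsg.Agent.LsF.f1d5f50_25 : {f // @Cfsg.Agent.LThreeCo1.Ev.trAux = f} := ⟨_, by first | (delta Cfsg.Agent.LThreeCo1.Ev.trAux Nat.brecOn.go Nat.brecOn Cfsg.Agent.LThreeCo1.Ev.trAux._f; rewrite [Cfsg.Agent.LsF.f1d5f50_17.2, Cfsg.Agent.LsF.f1d5f50_18.2]; (try delta Cfsg.Agent.LThreeCo1.Ev.trAux.match_1); (try delta Nat.casesOn); first | dsimp -zeta only | exact rfl) | exact rfl⟩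
private noncomputable def _root_.Cfsg.Agent.LsF.f1d5f50_26 : {f // @Cfsg.Agent.LThreeCo1.Ev.tr = f} := ⟨_, by first | (delta Cfsg.Agent.LThreeCo1.Ev.tr; rewrite [Cfsg.Agent.LsF.f1d5f50_25.2]; exact rfl) | exact rfl⟩
theorem okA : okN nA = true := Cfsg.Agent.Co0Q_H799_RO_CoNine.okz_of (by ((try (rewrite [Cfsg.Agent.LsF.f1d5f50_21.2, Cfsg.Agent.LsF.f1d5f50_24.2, Cfsg.Agent.LsF.f1d5f50_26.2])); decide +kernel))
theorem okX : okN nX = true := Cfsg.Agent.Co0Q_H799_RO_CoNine.okz_of (by ((try (rewrite [Cfsg.Agent.LsF.f1d5f50_21.2, Cfsg.Agent.LsF.f1d5f50_24.2, Cfsg.Agent.LsF.f1d5f50_26.2])); decide +kernel))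
theorem okY : okN nY = true := Cfsg.Agent.Co0Q_H799_RO_CoNine.okz_of (by ((try (rewrite [Cfsg.Agent.LsF.f1d5f50_21.2, Cfsg.Agent.LsF.f1d5f50_24.2, Cfsg.Agent.LsF.f1d5f50_26.2])); decide +kernel))
theorem okT : okN nT = true := Cfsg.Agent.Co0Q_H799_RO_CoNine.okz_of (by ((try (rewrite [Cfsg.Agent.LsF.f1d5f50_21.2, Cfsg.Agent.LsF.f1d5f50_24.2, Cfsg.Agent.LsF.f1d5f50_26.2])); decide +kernel))

/-- element -/
def gA : Co0 := mk (ok_of_okN okA)
theorem repA : Rep gA (dec nA) := rep_mk _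
/-- element -/
def gX : Co0 := mk (ok_of_okN okX)
theorem repX : Rep gX (dec nX) := rep_mk _
/-- element -/
def gY : Co0 := mk (ok_of_okN okY)
theorem repY : Rep gY (dec nY) := rep_mk _
/-- element -/
def gT : Co0 := mk (ok_of_okN okT)
theorem repT : Rep gT (dec nT) := rep_mk _

/-- the elements -/
def e : ℕ → Co0
  | 0 => gA
  | 1 => gX
  | 2 => gY
  | _ => gT

/-- their matrices -/
def Ms : ℕ → List (List ℤ)
  | 0 => dec nA
  | 1 => dec nX
  | 2 => dec nY
  | _ => dec nT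

theorem hM : ∀ i, Rep (e i) (Ms i)
  | 0 => repA
  | 1 => repX
  | 2 => repY
  | _ + 3 => repT

theorem a_sq : gA ^ 2 = 1 := by
  have h := eq_of_eqB hM (w := [0, 0]) (w' := []) (by (delta Cfsg.Agent.LThreeCo1.Ev.eqB Cfsg.Agent.LThreeCo1.Ev.foldZ; rewrite [Cfsg.Agent.Co0A_H799_RO_CoNine.apZ_F]; decide +kernel))
  simpa only [pow_succ, pow_zero, one_mul, List.map_cons, e, List.map_nil, List.prod_cons, List.prod_nil, mul_one] using h
theorem x_pow : gX ^ 9 = 1 := by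
  have h := eq_of_eqB hM (w := [1, 1, 1, 1, 1, 1, 1, 1, 1]) (w' := []) (by (delta Cfsg.Agent.LThreeCo1.Ev.eqB Cfsg.Agent.LThreeCo1.Ev.foldZ; rewrite [Cfsg.Agent.Co0A_H799_RO_CoNine.apZ_F]; decide +kernel))
  simpa only [pow_succ, pow_zero, one_mul, mul_assoc, List.map_cons, e, List.map_nil, List.prod_cons, List.prod_nil, mul_one] using h
theorem x_ne : gX ^ 3 ≠ 1 := by
  have h := ne_of_neB' hM (w := [1, 1, 1]) (w' := []) (by (delta Cfsg.Agent.LThreeCo1.Ev.foldZ Cfsg.Agent.LThreeCo1.Ev.neB'; rewrite [Cfsg.Agent.Co0A_H799_RO_CoNine.apZ_F]; decide +kernel))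
  simpa only [pow_succ, pow_zero, one_mul, mul_assoc, ne_eq, List.map_cons, e, List.map_nil, List.prod_cons, List.prod_nil,
      mul_one] using h
theorem y_pow : gY ^ 9 = 1 := by
  have h := eq_of_eqB hM (w := [2, 2, 2, 2, 2, 2, 2, 2, 2]) (w' := []) (by (delta Cfsg.Agent.LThreeCo1.Ev.eqB Cfsg.Agent.LThreeCo1.Ev.foldZ; rewrite [Cfsg.Agent.Co0A_H799_RO_CoNine.apZ_F]; decide +kernel))
  simpa only [pow_succ, pow_zero, one_mul, mul_assoc, List.map_cons, e, List.map_nil, List.prod_cons, List.prod_nil, mul_one] using h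
theorem y_ne : gY ^ 3 ≠ 1 := by
  have h := ne_of_neB' hM (w := [2, 2, 2]) (w' := []) (by (delta Cfsg.Agent.LThreeCo1.Ev.foldZ Cfsg.Agent.LThreeCo1.Ev.neB'; rewrite [Cfsg.Agent.Co0A_H799_RO_CoNine.apZ_F]; decide +kernel))
  simpa only [pow_succ, pow_zero, one_mul, mul_assoc, ne_eq, List.map_cons, e, List.map_nil, List.prod_cons, List.prod_nil,
      mul_one] using h
theorem t_sq : gT ^ 2 = 1 := by
  have h := eq_of_eqB hM (w := [3, 3]) (w' := []) (by (delta Cfsg.Agent.LThreeCo1.Ev.eqB Cfsg.Agent.LThreeCo1.Ev.foldZ; rewrite [Cfsg.Agent.Co0A_H799_RO_CoNine.apZ_F]; decide +kernel))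
  simpa only [pow_succ, pow_zero, one_mul, List.map_cons, e, List.map_nil, List.prod_cons, List.prod_nil, mul_one] using h
theorem t_ne : gT ≠ 1 := by
  have h := ne_of_neB' hM (w := [3]) (w' := []) (by (delta Cfsg.Agent.LThreeCo1.Ev.foldZ Cfsg.Agent.LThreeCo1.Ev.neB'; rewrite [Cfsg.Agent.Co0A_H799_RO_CoNine.apZ_F]; decide +kernel))
  simpa only [ne_eq, List.map_cons, e, List.map_nil, List.prod_cons, List.prod_nil, mul_one] using h
private noncomputable def _root_.Cfsg.Agent.LsF.f1d5f50_27 : {f // @Cfsg.Agent.CoOneType.CoEval.eqL = f} := ⟨_, by first | (delta Cfsg.Agent.CoOneType.CoEval.eqL List.brecOn List.brecOn.go Cfsg.Agent.CoOneType.CoEval.eqL._f; rewrite [Cfsg.Agent.LsF.and_eq, Cfsg.Agent.LsF.instIDecEq_eq, Cfsg.Agent.LsF.decide_eq]; (try delta Cfsg.Agent.CoOneType.CoEval.eqL.match_1); (try delta Cfsg.Agent.CoOneType.CoEval.eqL._sparseCasesOn_1); (try delta Cfsg.Agent.CoOneType.CoEval.eqL._sparseCasesOn_2); (try delta List.casesOn);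 first | dsimp -zeta only | exact rfl) | exact rfl⟩
private noncomputable def _root_.Cfsg.Agent.LsF.f1d5f50_28 : {f // @Cfsg.Agent.Co0A_H799_RO_CoNine.sm = f} := ⟨_, by first | (delta Cfsg.Agent.Co0A_H799_RO_CoNine.sm; rewrite [Cfsg.Agent.LsF.cond_eq]; exact rfl) | exact rfl⟩
private noncomputable def _root_.Cfsg.Agent.LsF.f1d5f50_29 : {f // @Cfsg.Agent.Co0A_H799_RO_CoNine.sh = f} := ⟨_, by first | (delta Cfsg.Agent.Co0A_H799_RO_CoNine.sh; rewrite [Cfsg.Agent.LsF.f1d5f50_28.2, Cfsg.Agent.LsF.and_eq, Cfsg.Agent.LsF.length_eq]; exact rfl) | exact rfl⟩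
private noncomputable def _root_.Cfsg.Agent.LsF.f1d5f50_30 : {f // @Cfsg.Agent.Co0A_H799_RO_CoNine.dk = f} := ⟨_, by first | (delta Cfsg.Agent.Co0A_H799_RO_CoNine.dk; rewrite [Cfsg.Agent.LsF.f1d5f50_0.2]; exact rfl) | exact rfl⟩
private noncomputable def _root_.Cfsg.Agent.LsF.f1d5f50_31 : {f // @Cfsg.Agent.Co0A_H799_RO_CoNine.pk = f} := ⟨_, by first | (delta Cfsg.Agent.Co0A_H799_RO_CoNine.pk; rewrite [Cfsg.Agent.LsF.iadd_pat, Cfsg.Agent.LsF.imul_pat, Cfsg.Agent.LsF.zipWith_eq, Cfsg.Agent.LsF.replicate_eq]; exact rfl) | exact rfl⟩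
private noncomputable def _root_.Cfsg.Agent.LsF.f1d5f50_32 : {f // @Cfsg.Agent.Co0A_H799_RO_CoNine.off = f} := ⟨_, by first | (delta Cfsg.Agent.Co0A_H799_RO_CoNine.off; rewrite [Cfsg.Agent.LsF.nadd_pat, Cfsg.Agent.LsF.nmul_pat]; exact rfl) | exact rfl⟩
private noncomputable def _root_.Cfsg.Agent.LsF.f1d5f50_33 : {f // @Cfsg.Agent.Co0A_H799_RO_CoNine.unp = f} := ⟨_, by first | (delta Cfsg.Agent.Co0A_H799_RO_CoNine.unp; rewrite [Cfsg.Agent.LsF.f1d5f50_0.2]; exact rfl) | exact rfl⟩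
private noncomputable def _root_.Cfsg.Agent.LsF.f1d5f50_34 : {f // @Cfsg.Agent.SporadicStructure.Co0Matrix.dotL = f} := ⟨_, by first | (delta Cfsg.Agent.SporadicStructure.Co0Matrix.dotL List.brecOn List.brecOn.go Cfsg.Agent.SporadicStructure.Co0Matrix.dotL._f; rewrite [Cfsg.Agent.LsF.iadd_pat, Cfsg.Agent.LsF.imul_pat]; (try delta Cfsg.Agent.SporadicStructure.Co0Matrix.dotL.match_1); (try delta Cfsg.Agent.SporadicStructure.Co0Matrix.dotL._sparseCasesOn_1); first | dsimp -zeta only | exact rfl) | exact rfl⟩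
private noncomputable def _root_.Cfsg.Agent.LsF.f1d5f50_35 : {f // @Cfsg.Agent.CoOneType.CoEval.ap = f} := ⟨_, by first | (delta Cfsg.Agent.CoOneType.CoEval.ap; rewrite [Cfsg.Agent.LsF.f1d5f50_34.2, Cfsg.Agent.LsF.map_eq]; exact rfl) | exact rfl⟩
private noncomputable def _root_.Cfsg.Agent.LsF.f1d5f50_36 : {f // @Cfsg.Agent.Co0A_H799_RO_CoNine.apF = f} := ⟨_, by first | (delta Cfsg.Agent.Co0A_H799_RO_CoNine.apF; rewrite [Cfsg.Agent.LsF.f1d5f50_29.2, Cfsg.Agent.LsF.f1d5f50_28.2, Cfsg.Agent.LsF.f1d5f50_30.2, Cfsg.Agent.LsF.f1d5f50_31.2, Cfsg.Agent.LsF.f1d5f50_32.2, Cfsg.Agent.LsF.f1d5f50_33.2, Cfsg.Agent.LsF.f1d5f50_35.2, Cfsg.Agent.LsF.cond_eq, Cfsg.Agent.LsF.toNat_eq]; (try delta Nat.casesOn); exact rfl) | exact rfl⟩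
private noncomputable def _root_.Cfsg.Agent.LsF.f1d5f50_37 : {f // @Cfsg.Agent.H799.RO.CoNine.Ms = f} := ⟨_, by first | (delta Cfsg.Agent.H799.RO.CoNine.Ms; rewrite [Cfsg.Agent.LsF.f1d5f50_24.2]; (try delta Cfsg.Agent.H799.RO.CoNine.e.match_1); (try rewrite [Cfsg.Agent.LsF.instDecEq_eq, Cfsg.Agent.LsF.dite_eq]); exact rfl) | exact rfl⟩
private noncomputable def _root_.Cfsg.Agent.LsF.f1d5f50_38 : {f // @Cfsg.Agent.CoOneType.CoEval.betaL = f} := ⟨_, by first | (delta Cfsg.Agent.CoOneType.CoEval.betaL; rewrite [Cfsg.Agent.LsF.imul_pat, Cfsg.Agent.LsF.map_eq, Cfsg.Agent.LsF.range_eq]; exact rfl) | exact rfl⟩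
theorem yt : gY * gT = gT * gY := by
  have h := eq_of_eqB hM (w := [2, 3]) (w' := [3, 2]) (by (delta Cfsg.Agent.LThreeCo1.Ev.eqB Cfsg.Agent.LThreeCo1.Ev.foldZ; rewrite [Cfsg.Agent.Co0A_H799_RO_CoNine.apZ_F]; ((try (rewrite [Cfsg.Agent.LsF.f1d5f50_27.2, Cfsg.Agent.LsF.f1d5f50_36.2, Cfsg.Agent.LsF.f1d5f50_37.2, Cfsg.Agent.LsF.f1d5f50_38.2, Cfsg.Agent.LsF.foldr_eq])); decide +kernel)))
  simpa only [List.map_cons, e, List.map_nil, List.prod_cons, List.prod_nil, mul_one] using h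
theorem axax : gA * gX * (gA * gX) = 1 := by
  have h := eq_of_eqB hM (w := [0, 1, 0, 1]) (w' := []) (by (delta Cfsg.Agent.LThreeCo1.Ev.eqB Cfsg.Agent.LThreeCo1.Ev.foldZ; rewrite [Cfsg.Agent.Co0A_H799_RO_CoNine.apZ_F]; ((try (rewrite [Cfsg.Agent.LsF.f1d5f50_27.2, Cfsg.Agent.LsF.f1d5f50_36.2, Cfsg.Agent.LsF.f1d5f50_37.2, Cfsg.Agent.LsF.f1d5f50_38.2, Cfsg.Agent.LsF.foldr_eq])); decide +kernel)))
  simpa only [mul_assoc, List.map_cons, e, List.map_nil, List.prod_cons, List.prod_nil, mul_one] using h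

/-- fixed vectors and dual vectors -/
def vwX : List (List ℤ × List ℤ) := [
  ([2, 0, 0, -4, 0, 2, 0, -2, 2, 2, 2, -2, 2, 2, -2, 0, -2, -2, 0, 2, -2, 2, 2, 4],
   [2, 0, 0, 2, 2, 2, 2, 2, 2, 2, 2, 2, 6, -2, 0, -2, 0, 2, 0, 0, 0, 2, -2, 0]),
  ([1, -1, -1, -1, -1, 1, -1, 1, 1, 1, 1, 1, 1, 1, 1, -1, 1, 1, -1, 1, 1, 1, 1, 3],
   [1, 1, 1, 1, 1, 1, 1, 1, 1, 1, 1, 1, -3, 1, -3, 1, -3, -3, -3, 1, 1, 1, -3, 5]),
  ([3, 1, 1, -3, 1, -1, 1, -3, -3, -3, -3, -1, -1, 1, 1, 3, 1, -1, 1, 1, -1, 1, -3, 3],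
   [0, 0, 0, 2, 2, 2, 2, 2, 2, 2, 2, 2, -4, -2, -2, -2, -2, 0, -2, 0, 0, 2, 4, -2]),
  ([6, 2, 2, 0, 2, 0, 2, 2, 2, 2, 2, 0, 0, 0, 0, 0, 0, 0, 2, 0, 0, 0, 2, -2],
   [-1, -1, 1, 1, 1, 1, -3, 1, 1, 1, 1, -3, 1, 3, -3, -1, -3, -1, -1, 3, 1, 1, 1, 3])]

private noncomputable def _root_.Cfsg.Agent.LsF.f1d5f50_39 : {f // @Cfsg.Agent.LThreeMB.Fix.latB = f} := ⟨_, by first | (delta Cfsg.Agent.LThreeMB.Fix.latB; rewrite [Cfsg.Agent.LsF.f1d5f50_10.2, Cfsg.Agent.LsF.and_eq, Cfsg.Agent.LsF.all_eq]; exact rfl) | exact rfl⟩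
private noncomputable def _root_.Cfsg.Agent.LsF.f1d5f50_40 : {f // @Cfsg.Agent.LThreeMB.Fix.mulL = f} := ⟨_, by first | (delta Cfsg.Agent.LThreeMB.Fix.mulL; rewrite [Cfsg.Agent.LsF.imul_pat, Cfsg.Agent.LsF.map_eq]; exact rfl) | exact rfl⟩
private noncomputable def _root_.Cfsg.Agent.LsF.f1d5f50_41 : {f // @Cfsg.Agent.LThreeMB.Fix.addL = f} := ⟨_, by first | (delta Cfsg.Agent.LThreeMB.Fix.addL List.brecOn List.brecOn.go Cfsg.Agent.LThreeMB.Fix.addL._f; rewrite [Cfsg.Agent.LsF.iadd_pat]; (try delta Cfsg.Agent.LThreeMB.Fix.addL.match_1); (try delta List.casesOn); first | dsimp -zeta only | exact rfl) | exact rfl⟩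
private noncomputable def _root_.Cfsg.Agent.LsF.f1d5f50_42 : {f // @Cfsg.Agent.Co0Q_H799_RO_CoNine.rq = f} := ⟨_, by first | (delta Cfsg.Agent.Co0Q_H799_RO_CoNine.rq; rewrite [Cfsg.Agent.LsF.f1d5f50_40.2, Cfsg.Agent.LsF.f1d5f50_41.2, Cfsg.Agent.LsF.f1d5f50_12.2, Cfsg.Agent.LsF.ineg_pat]; exact rfl) | exact rfl⟩
private noncomputable def _root_.Cfsg.Agent.LsF.f1d5f50_43 : {f // @Cfsg.Agent.Co0Q_H799_RO_CoNine.lq = f} := ⟨_, by first | (delta Cfsg.Agent.Co0Q_H799_RO_CoNine.lq; rewrite [Cfsg.Agent.LsF.f1d5f50_13.2, Cfsg.Agent.LsF.f1d5f50_40.2, Cfsg.Agent.LsF.f1d5f50_41.2]; exact rfl) | exact rfl⟩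
private noncomputable def _root_.Cfsg.Agent.LsF.f1d5f50_44 : {f // @Cfsg.Agent.Co0Q_H799_RO_CoNine.ts1 = f} := ⟨_, by first | (delta Cfsg.Agent.Co0Q_H799_RO_CoNine.ts1; rewrite [Cfsg.Agent.LsF.iadd_pat, Cfsg.Agent.LsF.toNat_eq]; exact rfl) | exact rfl⟩
private noncomputable def _root_.Cfsg.Agent.LsF.f1d5f50_45 : {f // @Cfsg.Agent.Co0Q_H799_RO_CoNine.spq = f} := ⟨_, by first | (delta Cfsg.Agent.Co0Q_H799_RO_CoNine.spq; rewrite [Cfsg.Agent.LsF.f1d5f50_6.2, Cfsg.Agent.LsF.f1d5f50_20.2, Cfsg.Agent.LsF.f1d5f50_39.2, Cfsg.Agent.LsF.f1d5f50_13.2, Cfsg.Agent.LsF.f1d5f50_5.2, Cfsg.Agent.LsF.f1d5f50_42.2, Cfsg.Agent.LsF.f1d5f50_43.2, Cfsg.Agent.LsF.f1d5f50_2.2, Cfsg.Agent.LsF.f1d5f50_44.2, Cfsg.Agent.LsF.and_eq, Cfsg.Agent.LsF.all_eq, Cfsg.Agent.LsF.map_eq, Cfsg.Agent.LsF.getD_eq, Cfsg.Agent.LsF.length_eq]; exact rfl) | exact rfl⟩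
theorem spX : spanB 9 (dec nX) vwX = true := Cfsg.Agent.Co0Q_H799_RO_CoNine.spanN (n := 8) (by ((try (rewrite [Cfsg.Agent.LsF.f1d5f50_45.2, Cfsg.Agent.LsF.f1d5f50_24.2])); decide +kernel))


theorem frX : fr (QuotientGroup.mk gX : Co1) = 2 ^ 4 :=
  Cfsg.Agent.MFive.FixN.card_fix (n := 9) (by decide) repX (vw := vwX) (by decide +kernel) (by (delta Cfsg.Agent.LThreeMB.Fix.fixB; rewrite [Cfsg.Agent.Co0A_H799_RO_CoNine.ap_F]; decide +kernel))
    (by (delta Cfsg.Agent.LThreeMB.Fix.dualB; rewrite [Cfsg.Agent.Co0A_H799_RO_CoNine.dotL_F]; decide +kernel)) spX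

/-- fixed vectors and dual vectors -/
def vwY : List (List ℤ × List ℤ) := [
  ([-1, 1, 1, 3, -3, 1, 5, -3, -1, 1, 1, 1, 1, 1, 3, -1, 1, 1, -1, 1, -1, 1, 1, -1],
   [-2, 0, 0, 0, 0, 0, 0, 0, 0, 0, 0, 0, -2, 0, -2, 0, -2, -2, -2, 0, 0, 0, -2, -2]),
  ([2, 0, -4, -2, 0, 0, 0, 0, -2, 0, 0, 0, 4, -4, -2, 2, 0, 0, 2, 0, 2, 0, 0, 2],
   [1, 1, 1, 1, 1, 1, 1, 1, 1, 1, 1, 1, -3, 1, -3, 1, -3, -3, -3, 1, 1, 1, -3, 5])]

theorem spY : spanB 9 (dec nY) vwY = true := Cfsg.Agent.Co0Q_H799_RO_CoNine.spanN (n := 8) (by ((try (rewrite [Cfsg.Agent.LsF.f1d5f50_45.2, Cfsg.Agent.LsF.f1d5f50_24.2])); decide +kernel))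


theorem frY : fr (QuotientGroup.mk gY : Co1) = 2 ^ 2 :=
  Cfsg.Agent.MFive.FixN.card_fix (n := 9) (by decide) repY (vw := vwY) (by decide +kernel) (by (delta Cfsg.Agent.LThreeMB.Fix.fixB; rewrite [Cfsg.Agent.Co0A_H799_RO_CoNine.ap_F]; decide +kernel))
    (by (delta Cfsg.Agent.LThreeMB.Fix.dualB; rewrite [Cfsg.Agent.Co0A_H799_RO_CoNine.dotL_F]; decide +kernel)) spY

theorem fr_ne : fr (QuotientGroup.mk gX : Co1) ≠ fr (QuotientGroup.mk gY : Co1) := by
  rw [frX, frY]; norm_num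

theorem memA : gA.1 ∈ Spor.Co3 := mem_Co3 repA (by (rewrite [Cfsg.Agent.Co0A_H799_RO_CoNine.ap_F]; decide +kernel))
theorem memX : gX.1 ∈ Spor.Co3 := mem_Co3 repX (by (rewrite [Cfsg.Agent.Co0A_H799_RO_CoNine.ap_F]; decide +kernel))
theorem memY : gY.1 ∈ Spor.Co3 := mem_Co3 repY (by (rewrite [Cfsg.Agent.Co0A_H799_RO_CoNine.ap_F]; decide +kernel))
theorem memT : gT.1 ∈ Spor.Co3 := mem_Co3 repT (by (rewrite [Cfsg.Agent.Co0A_H799_RO_CoNine.ap_F]; decide +kernel))

end Cfsg.Agent.H799.RO.CoNine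

private theorem dce_5cf9c7804924 : _root_.True := by
  try have : _root_.True := by simp only [_root_.Cfsg.Agent.H799.RO.CoNine.e.eq_3]
  try have : _root_.True := by simp only [_root_.Cfsg.Agent.H799.RO.CoNine.e.eq_2]
  try have : _root_.True := by simp only [_root_.Cfsg.Agent.H799.RO.CoNine.e.eq_1]
  try have : _root_.True := by simp only [_root_.Cfsg.Agent.H799.RO.CoNine.e.eq_4]
  exact _root_.True.intro
end

-- part: H729/RealTh
section
set_option linter.all false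
open scoped Cfsg.Agent.FastGrp

/-! # `RealOdd` for `Th`: two involutions whose product has order 19 (S2248, helper729) -/

set_option autoImplicit false
set_option maxRecDepth 100000

namespace Cfsg.Agent.H729.RealTh

open Cfsg Cfsg.Agent.H729.PairBase Cfsg.Agent.H101.RO
open Cfsg.Agent.Th.Gen248 Cfsg.Agent.Th.Hom248 Cfsg.Agent.Th.Simple19

/-- the value of a word in the presented group -/
noncomputable def ev (w : Wd) : Spor.Th :=
  (PresentedGroup.mk (Cfsg.Spor.coxRelators Cfsg.Spor.Th.edges ∪ {r | r ∈ Cfsg.Spor.Th.extra}) (toFree w) : Spor.Th)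

/-- the involution a d s -/
def v1 : Wd := .mul (.mul (.g .a) (.g .d)) (.g .s)

/-- the involution u b u⁻¹ -/
def v2 : Wd := .mul (.mul (.g .u) (.g .b)) (.g .U)

theorem v1_sq : Nat.beq (evN false (.mul v1 v1)) (evN false .one) = true := by exact Cfsg.Agent.Th.Bit3.yes (by decide +kernel)

theorem v2_sq : Nat.beq (evN false (.mul v2 v2)) (evN false .one) = true := by exact Cfsg.Agent.Th.Bit3.yes (by decide +kernel)

theorem v_19 : Nat.beq (evN false (p19 (.mul v1 v2))) (evN false .one) = true := by exact Cfsg.Agent.Th.Bit3.yes (by decide +kernel)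

theorem v_ne : Nat.beq (evN false (.mul v1 v2)) (evN false .one) = false := by exact Cfsg.Agent.Th.Bit3.no (by decide +kernel)

theorem ev_eq_one {w : Wd} (h : Nat.beq (evN false w) (evN false .one) = true) : ev w = 1 := by
  apply Cfsg.Agent.Th.Main1700.rho_injective
  rw [ev, rho_mk, map_one]
  exact evG_eq h

theorem th_model [Finite Spor.Th] : RealOdd Spor.Th := by
  have hna := H149.Sp.na_th_all (p := 19) (by norm_num)
  have h1 : ev v1 * ev v1 = 1 := ev_eq_one v1_sq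
  have h2 : ev v2 * ev v2 = 1 := ev_eq_one v2_sq
  have h3 : orderOf (ev v1 * ev v2) = 19 := order19 Cfsg.Agent.Th.Main1700.rho_injective v_19 v_ne
  exact RealBase.of_two (r := 19) (by norm_num) (by norm_num) h1 h2 h3 fun u x hu hx hc =>
    hna x u hx hu hc.symm

theorem th {K : Type*} [Group K] [Finite K] (h : Spor.IsoTh K) : RealOdd K := by
  obtain ⟨e⟩ := h
  have : Finite Spor.Th := Finite.of_equiv _ e.toEquiv
  exact th_model.congr e.symm

end Cfsg.Agent.H729.RealTh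

private theorem dce_6eaf182fe6a0 : _root_.True := by
  try have : _root_.True := by simp only [_root_.Cfsg.Agent.H729.RealTh.ev.eq_1]
  exact _root_.True.intro
end
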